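import Groth.Agent.OortTate.Eigen
import Mathlib.RingTheory.HopfAlgebra.TensorProduct

/-!
# Base change of power maps and eigenspaces
-/

open Coalgebra Bialgebra TensorProduct WithConv

universe u v

namespace Groth.Agent.OortTate.BaseChange

open Groth.Agent.FinHopf.Deligne Groth.Agent.OortTate.Eigen

noncomputable section

variable {R : Type u} [CommRing R] {A : Type u} [CommRing A] [HopfAlgebra R A]
  (K : Type u) [CommRing K] [Algebra R K]

/-- restriction of forms on `K ⊗ A` to `A` -/
def restr {T : Type v} [CommRing T] [Algebra R T] [Algebra K T] [IsScalarTower R K T]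
    (f : WithConv (K ⊗[R] A →ₗ[K] T)) : WithConv (A →ₗ[R] T) :=
  toConv (f.ofConv.restrictScalars R ∘ₗ TensorProduct.mk R K A 1)

theorem comul_one_tmul (a : A) :
    comul (R := K) ((1 : K) ⊗ₜ[R] a) =
      ∑ i ∈ (ℛ R a).index, ((1 : K) ⊗ₜ[R] (ℛ R a).left i) ⊗ₜ[K] ((1 : K) ⊗ₜ[R] (ℛ R a).right i) := by
  rw [TensorProduct.comul_tmul, CommSemiring.comul_apply, ← (ℛ R a).eq]
  simp [TensorProduct.tmul_sum, map_sum]

/-- restriction of points, as a monoid hom -/
def restrHom {T : Type v} [CommRing T] [Algebra R T] [Algebra K T] [IsScalarTower R K T] :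
    WithConv (K ⊗[R] A →ₐ[K] T) →* WithConv (A →ₐ[R] T) where
  toFun f := toConv ((f.ofConv.restrictScalars R).comp Algebra.TensorProduct.includeRight)
  map_one' := by
    apply WithConv.ext; ext a
    simp [AlgHom.convOne_def, Algebra.ofId_apply, Algebra.algebraMap_eq_smul_one]
  map_mul' f g := by
    apply WithConv.ext; ext a
    simp only [ofConv_toConv, AlgHom.comp_apply, AlgHom.restrictScalars_apply,
      Algebra.TensorProduct.includeRight_apply]
    rw [AlgHom.convMul_apply, AlgHom.convMul_apply, comul_one_tmul, ← (ℛ R a).eq]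
    simp [map_sum]

theorem powConv_one_tmul (n : ℕ) (a : A) :
    SGA3b.powConv K (K ⊗[R] A) n ((1 : K) ⊗ₜ[R] a) = (1 : K) ⊗ₜ[R] SGA3b.powConv R A n a := by
  have h : restrHom (R := R) (A := A) K (T := K ⊗[R] A) ((toConv (AlgHom.id K (K ⊗[R] A))) ^ n) =
      postHom (Algebra.TensorProduct.includeRight : A →ₐ[R] K ⊗[R] A) ((toConv (AlgHom.id R A)) ^ n) := by
    rw [map_pow, map_pow]; rfl
  exact AlgHom.congr_fun (congrArg WithConv.ofConv h) a

theorem conv_pow_eq_one {p : ℕ} (hp : (toConv (AlgHom.id R A)) ^ p = 1) :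
    (toConv (AlgHom.id K (K ⊗[R] A))) ^ p = 1 := by
  apply WithConv.ext
  apply Algebra.TensorProduct.ext_ring
  ext a
  simp only [AlgHom.comp_apply, AlgHom.restrictScalars_apply, Algebra.TensorProduct.includeRight_apply]
  have h := powConv_one_tmul (R := R) K (A := A) p a
  simp only [SGA3b.powConv] at h
  rw [h, hp]
  simp [AlgHom.convOne_def, Algebra.ofId_apply, Algebra.algebraMap_eq_smul_one, Algebra.TensorProduct.one_def]

variable (p : ℕ) [hp' : Fact p.Prime] (u : R) (χ : (ZMod p)ˣ →* Rˣ)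

/-- base change of the character -/
def charBC : (ZMod p)ˣ →* Kˣ := (Units.map (algebraMap R K).toMonoidHom).comp χ

theorem hu_bc (hu : u * ((p - 1 : ℕ) : R) = 1) : algebraMap R K u * ((p - 1 : ℕ) : K) = 1 := by
  rw [← map_natCast (algebraMap R K), ← map_mul, hu, map_one]

theorem hχ_bc (hχ : ∀ m : (ZMod p)ˣ, m ≠ 1 → IsUnit ((χ m : R) - 1)) :
    ∀ m : (ZMod p)ˣ, m ≠ 1 → IsUnit ((charBC K p χ m : K) - 1) := fun m hm => by
  simpa [charBC] using (hχ m hm).map (algebraMap R K)

theorem hχp_bc (hχp : ∀ m : (ZMod p)ˣ, ((χ m : Rˣ) : R) - (((m : ZMod p).val : ℕ) : R) ∈ Ideal.span ({(p : R)} : Set R)) :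
    ∀ m : (ZMod p)ˣ, ((charBC K p χ m : Kˣ) : K) - (((m : ZMod p).val : ℕ) : K) ∈ Ideal.span ({(p : K)} : Set K) := fun m => by
  obtain ⟨r, hr⟩ := Ideal.mem_span_singleton'.mp (hχp m)
  refine Ideal.mem_span_singleton'.mpr ⟨algebraMap R K r, ?_⟩
  rw [← map_natCast (algebraMap R K) p, ← map_mul, hr]
  simp [charBC, -ZMod.natCast_val]

theorem eproj_baseChange (i : ℕ) :
    eproj K (K ⊗[R] A) p (algebraMap R K u) (charBC K p χ) i = (eproj R A p u χ i).baseChange K := by
  ext a
  have haug : augProj K (K ⊗[R] A) ((1 : K) ⊗ₜ[R] a) = (1 : K) ⊗ₜ[R] augProj R A a := by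
    simp [augProj, TensorProduct.tmul_sub, Algebra.algebraMap_eq_smul_one, Algebra.TensorProduct.one_def, TensorProduct.smul_tmul']
  simp only [LinearMap.restrictScalars_apply, TensorProduct.AlgebraTensorModule.curry_apply,
    TensorProduct.curry_apply, LinearMap.coe_restrictScalars, LinearMap.baseChange_tmul]
  simp only [eproj, LinearMap.comp_apply, haug, proj_apply, powConv_one_tmul, charBC, MonoidHom.comp_apply,
    Units.coe_map, RingHom.toMonoidHom_eq_coe, MonoidHom.coe_coe, TensorProduct.tmul_smul, TensorProduct.tmul_sum,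
    algebraMap_smul, ← map_pow]

variable (hu : u * ((p - 1 : ℕ) : R) = 1) (hχ : ∀ m : (ZMod p)ˣ, m ≠ 1 → IsUnit ((χ m : R) - 1))
  (hp : (toConv (AlgHom.id R A)) ^ p = 1)

include hu hχ hp in
theorem tmul_mem {i : ℕ} {x : A} (hx : x ∈ OortTate.eigenAug R A p χ i) :
    (1 : K) ⊗ₜ[R] x ∈ OortTate.eigenAug K (K ⊗[R] A) p (charBC K p χ) i := by
  have h := eproj_mem p (algebraMap R K u) (charBC K p χ) (conv_pow_eq_one K hp) i ((1 : K) ⊗ₜ[R] x)
  rwa [eproj_baseChange, LinearMap.baseChange_tmul, eproj_of_mem p u χ hu hχ hx, if_pos rfl] at h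

include hu hχ hp in
/-- the eigenspaces of the base change are the base changes of the eigenspaces -/
theorem eigen_eq_span (i : ℕ) :
    OortTate.eigenAug K (K ⊗[R] A) p (charBC K p χ) i =
      Submodule.span K ((fun x : A => (1 : K) ⊗ₜ[R] x) '' (OortTate.eigenAug R A p χ i : Set A)) := by
  refine le_antisymm (fun z hz => ?_) (Submodule.span_le.mpr ?_)
  · have h := eproj_of_mem p (algebraMap R K u) (charBC K p χ) (hu_bc K p u hu) (hχ_bc K p χ hχ) hz (i := i)
    rw [if_pos rfl, eproj_baseChange] at h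
    rw [← h]
    clear h hz
    induction z using TensorProduct.induction_on with
    | zero => simp
    | tmul c a =>
      rw [LinearMap.baseChange_tmul,
        show c ⊗ₜ[R] eproj R A p u χ i a = c • ((1 : K) ⊗ₜ[R] eproj R A p u χ i a) by
          rw [TensorProduct.smul_tmul', smul_eq_mul, mul_one]]
      exact Submodule.smul_mem _ _ (Submodule.subset_span ⟨_, eproj_mem p u χ hp i a, rfl⟩)
    | add x y hx hy => rw [map_add]; exact add_mem hx hy
  · rintro _ ⟨x, hx, rfl⟩
    exact tmul_mem K p u χ hu hχ hp hx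

include hu hχ hp in
/-- the base change of an eigenspace is the eigenspace of the base change -/
def eigenEquiv (i : ℕ) :
    K ⊗[R] OortTate.eigenAug R A p χ i ≃ₗ[K] OortTate.eigenAug K (K ⊗[R] A) p (charBC K p χ) i :=
  let ι := ((OortTate.eigenAug R A p χ i).subtype).baseChange K
  have hι : Function.Injective ι := by
    let r : A →ₗ[R] OortTate.eigenAug R A p χ i := (eproj R A p u χ i).codRestrict _ (eproj_mem p u χ hp i)
    have hr : r.baseChange K ∘ₗ ι = LinearMap.id := by
      rw [← LinearMap.baseChange_comp]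
      have : r ∘ₗ (OortTate.eigenAug R A p χ i).subtype = LinearMap.id := by
        ext x
        change eproj R A p u χ i x = (x : A)
        rw [eproj_of_mem p u χ hu hχ x.2, if_pos rfl]
      rw [this, LinearMap.baseChange_id]
    exact Function.HasLeftInverse.injective ⟨r.baseChange K, LinearMap.congr_fun hr⟩
  (LinearEquiv.ofInjective ι hι).trans (LinearEquiv.ofEq _ _ (by
    rw [eigen_eq_span K p u χ hu hχ hp i]
    apply le_antisymm
    · rintro _ ⟨z, rfl⟩
      induction z using TensorProduct.induction_on with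
      | zero => simp
      | tmul c x =>
        have : ι (c ⊗ₜ[R] x) = c • ((1 : K) ⊗ₜ[R] (x : A)) := by
          simp [ι, TensorProduct.smul_tmul']
        rw [this]
        exact Submodule.smul_mem _ _ (Submodule.subset_span ⟨x, x.2, rfl⟩)
      | add x y hx hy => rw [map_add]; exact add_mem hx hy
    · rw [Submodule.span_le]
      rintro _ ⟨x, hx, rfl⟩
      exact ⟨(1 : K) ⊗ₜ[R] ⟨x, hx⟩, by simp [ι]⟩))

end

end Groth.Agent.OortTate.BaseChange
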