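import Groth.Agent.OortTate.Mu
import Mathlib.Algebra.Module.FinitePresentation
import Mathlib.LinearAlgebra.Contraction

/-!
# The pairing of `A` with its Cartier dual for a group of order `p`
-/

open Coalgebra Bialgebra TensorProduct WithConv
open scoped Pointwise

universe u

namespace Groth.Agent.OortTate.Pairing

open Groth.Agent.OortTate.Eigen Groth.Agent.FinHopf.Deligne

noncomputable section

variable {R : Type u} [CommRing R]

theorem rankAtStalk_dual (M : Type u) [AddCommGroup M] [Module R M] [Module.Finite R M]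
    [Module.Projective R M] (q : PrimeSpectrum R) :
    Module.rankAtStalk (Module.Dual R M) q = Module.rankAtStalk M q := by
  let S := q.asIdeal.primeCompl
  let T := Localization.AtPrime q.asIdeal
  have : IsLocalizedModule S (Algebra.linearMap R T) := inferInstance
  have : Module.Free T (LocalizedModule S M) := Module.free_of_flat_of_isLocalRing
  have : Module.FinitePresentation R M := Module.finitePresentation_of_projective R M
  let h := IsLocalizedModule.mapExtendScalars S (LocalizedModule.mkLinearMap S M) (Algebra.linearMap R T) T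
  let e : LocalizedModule S (Module.Dual R M) ≃ₗ[T] (LocalizedModule S M →ₗ[T] T) :=
    (IsLocalizedModule.iso S h).extendScalarsOfIsLocalization S T
  change Module.finrank T (LocalizedModule S (Module.Dual R M)) = Module.finrank T (LocalizedModule S M)
  rw [e.finrank_eq, Module.finrank_linearMap, Module.finrank_self, mul_one]

variable {A : Type u} [CommRing A] [HopfAlgebra R A] [Coalgebra.IsCocomm R A]

variable (R A) in
/-- `a ↦ ε(·) • a` -/
def embA : A →ₐ[R] WithConv (A →ₗ[R] A) where
  toFun a := toConv ((counit : A →ₗ[R] R).smulRight a)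
  map_one' := by
    apply WithConv.ext; ext x
    simp [LinearMap.convOne_def, Algebra.algebraMap_eq_smul_one]
  map_mul' a b := by
    apply WithConv.ext; ext x
    rw [LinearMap.convMul_apply, ← (ℛ R x).eq]
    simp only [map_sum, TensorProduct.map_tmul, LinearMap.mul'_apply, LinearMap.smulRight_apply,
      smul_mul_smul_comm, ← Finset.sum_smul]
    congr 1
    conv_lhs => rw [← Coalgebra.sum_counit_smul (ℛ R x), map_sum]
    simp
  map_zero' := by apply WithConv.ext; ext x; simp
  map_add' a b := by apply WithConv.ext; ext x; simp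
  commutes' r := by
    apply WithConv.ext; ext x
    simp [LinearMap.convAlgebraMap_apply, Algebra.algebraMap_eq_smul_one, smul_smul, mul_comm]

variable [Module.Finite R A] [Module.Projective R A]

variable (R A) in
/-- `φ ↦ φ(·) • 1` -/
def embD : CartDual.D R A →ₐ[R] WithConv (A →ₗ[R] A) :=
  { postRingHom (Algebra.ofId R A) with
    commutes' := fun r => by
      apply WithConv.ext; ext x
      simp [postRingHom, LinearMap.convAlgebraMap_apply, Algebra.algebraMap_eq_smul_one, smul_smul,
        CartDual.coe_apply] }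

variable (R A) in
/-- `a ⊗ φ ↦ φ(·) • a`, the identification of `A ⊗ Aᴰ` with convolution endomorphisms -/
def psi : A ⊗[R] CartDual.D R A →ₐ[R] WithConv (A →ₗ[R] A) :=
  Algebra.TensorProduct.lift (embA R A) (embD R A) fun _ _ => Commute.all _ _

theorem psi_tmul (a : A) (φ : CartDual.D R A) (x : A) : psi R A (a ⊗ₜ φ) x = φ x • a := by
  rw [psi, Algebra.TensorProduct.lift_tmul, LinearMap.convMul_apply, ← (ℛ R x).eq]
  simp only [map_sum, TensorProduct.map_tmul, LinearMap.mul'_apply]
  conv_rhs => rw [← Coalgebra.sum_counit_smul (ℛ R x), map_sum, Finset.sum_smul]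
  simp [embA, embD, postRingHom, Algebra.algebraMap_eq_smul_one, smul_smul, mul_comm]

theorem psi_injective : Function.Injective (psi R A) := by
  let e : A ⊗[R] CartDual.D R A ≃ₗ[R] (A →ₗ[R] A) :=
    TensorProduct.congr (LinearEquiv.refl R A) (CartDual.toDual R A) ≪≫ₗ TensorProduct.comm R A _ ≪≫ₗ
      dualTensorHomEquiv R A A
  have h : ∀ t, psi R A t = toConv (e t) := by
    intro t
    induction t using TensorProduct.induction_on with
    | zero => simp
    | tmul a φ =>
      apply WithConv.ext; ext x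
      rw [psi_tmul]
      simp [e, dualTensorHomEquiv, CartDual.coe_apply]
    | add s t hs ht => simp [map_add, hs, ht]
  intro s t hst
  rw [h, h] at hst
  exact e.injective (WithConv.toConv_injective hst)

theorem psi_prod {n : ℕ} (f : Fin n → A) (g : Fin n → CartDual.D R A) :
    psi R A ((∏ i, f i) ⊗ₜ[R] (∏ i, g i)) = ∏ i, psi R A (f i ⊗ₜ[R] g i) := by
  simp only [psi, Algebra.TensorProduct.lift_tmul, map_prod, Finset.prod_mul_distrib]

variable (p : ℕ) [hp' : Fact p.Prime] (u : R) (χ : (ZMod p)ˣ →* Rˣ)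
  (hu : u * ((p - 1 : ℕ) : R) = 1) (hχ : ∀ m : (ZMod p)ˣ, m ≠ 1 → IsUnit ((χ m : R) - 1))
  (hχp : ∀ m : (ZMod p)ˣ, ((χ m : Rˣ) : R) - (((m : ZMod p).val : ℕ) : R) ∈ Ideal.span ({(p : R)} : Set R))
  (hrk : ∀ q : PrimeSpectrum R, Module.rankAtStalk A q = p)

omit [Coalgebra.IsCocomm R A] hp' in
include hrk in
theorem rank_dual (q : PrimeSpectrum R) : Module.rankAtStalk (CartDual.D R A) q = p := by
  rw [Module.rankAtStalk_eq_of_equiv (CartDual.toDual R A)]
  exact (rankAtStalk_dual A q).trans (hrk q)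

include hu hχ hχp hrk in
theorem swap {φ : CartDual.D R A} (hφ : φ ∈ OortTate.eigenAug R (CartDual.D R A) p χ 1) {x y : A}
    (hx : x ∈ OortTate.eigenAug R A p χ 1) (hy : y ∈ OortTate.eigenAug R A p χ 1) :
    φ x • y = φ y • x := by
  obtain ⟨_, _⟩ := Invertible.finite_projective (A := A) p u χ hu hχ hrk 1
  exact congrArg Subtype.val (RankOne.swap (M := OortTate.eigenAug R A p χ 1)
    (Invertible.rankAtStalk_eq_one p u χ hu hχ hχp hrk 1)
    (φ.ofConv ∘ₗ (OortTate.eigenAug R A p χ 1).subtype) ⟨x, hx⟩ ⟨y, hy⟩)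

include hu hχ hχp hrk in
theorem psi_tmul_eigen {φ : CartDual.D R A} (hφ : φ ∈ OortTate.eigenAug R (CartDual.D R A) p χ 1) {y : A}
    (hy : y ∈ OortTate.eigenAug R A p χ 1) :
    psi R A (y ⊗ₜ φ) = φ y • toConv (eproj R A p u χ 1) := by
  have hp := Invertible.conv_pow_p p hrk
  apply WithConv.ext
  ext x
  rw [psi_tmul]
  simp only [WithConv.ofConv_smul, LinearMap.smul_apply]
  have h := dual_apply_eproj p u χ hu hχ 1 1 hφ x
  rw [if_pos rfl] at h
  rw [← h]
  exact swap p u χ hu hχ hχp hrk hφ (eproj_mem p u χ hp 1 x) hy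

include hu hχ hχp hrk in
theorem eq_zero_of_smul_eproj {r : R} (h : r • (toConv (eproj R A p u χ 1) : WithConv (A →ₗ[R] A)) = 0) :
    r = 0 := by
  obtain ⟨_, _⟩ := Invertible.finite_projective (A := A) p u χ hu hχ hrk 1
  refine RankOne.eq_zero_of_smul_eq_zero (M := OortTate.eigenAug R A p χ 1)
    (Invertible.rankAtStalk_eq_one p u χ hu hχ hχp hrk 1) r fun x => ?_
  have hx := congrArg (fun f : WithConv (A →ₗ[R] A) => f (x : A)) h
  simp only [WithConv.ofConv_smul, LinearMap.smul_apply, WithConv.ofConv_zero, LinearMap.zero_apply] at hx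
  rw [eproj_of_mem p u χ hu hχ x.2, if_pos rfl] at hx
  exact Subtype.ext hx

/-- the constant `w_j` -/
def w (j : ℕ) : R :=
  open scoped Classical in
  if h : ∃ c : R, OortTate.ygen R p u χ 1 ^ j = c • OortTate.ygen R p u χ j then h.choose else 0

include hu hχ in
theorem w_spec (j : ℕ) (hj : 1 ≤ j) :
    OortTate.ygen R p u χ 1 ^ j = w p u χ j • OortTate.ygen R p u χ j := by
  have h := Mu.exists_w p u χ hu hχ j hj
  rw [w, dif_pos h]
  exact h.choose_spec

include hu hχ hχp hrk in
/-- the pairing of products -/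
theorem prod_apply {j : ℕ} (hj : 1 ≤ j) (hjp : j ≤ p - 1)
    (φ : Fin j → OortTate.eigenAug R (CartDual.D R A) p χ 1) (x : Fin j → OortTate.eigenAug R A p χ 1) :
    (∏ i, (φ i : CartDual.D R A)) (∏ i, (x i : A)) = w p u χ j * ∏ i, (φ i : CartDual.D R A) (x i : A) := by
  have hp := Invertible.conv_pow_p p hrk
  set Φ : CartDual.D R A := ∏ i, (φ i : CartDual.D R A)
  set X : A := ∏ i, (x i : A)
  have key : ∀ y : Fin j → OortTate.eigenAug R A p χ 1,
      (Φ X - w p u χ j * ∏ i, (φ i : CartDual.D R A) (x i : A)) • (∏ i, (y i : A)) = 0 := by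
    intro y
    have h1 : psi R A ((∏ i, (y i : A)) ⊗ₜ[R] Φ) =
        (∏ i, (φ i : CartDual.D R A) (y i : A)) • (w p u χ j • toConv (eproj R A p u χ j)) := by
      rw [psi_prod]
      simp only [psi_tmul_eigen p u χ hu hχ hχp hrk (φ _).2 (y _).2]
      rw [← Mu.eproj_pow p u χ hp (w_spec p u χ hu hχ j hj), Finset.prod_smul]
      simp
    have h2 := congrArg (fun f : WithConv (A →ₗ[R] A) => f X) h1
    simp only [psi_tmul, WithConv.ofConv_smul, LinearMap.smul_apply] at h2
    rw [eproj_of_mem p u χ hu hχ (Structure.prod_mem p χ hj x), if_pos rfl] at h2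
    have h3 : (∏ i, (φ i : CartDual.D R A) (y i : A)) • X =
        (∏ i, (φ i : CartDual.D R A) (x i : A)) • (∏ i, (y i : A)) := by
      rw [← Finset.prod_smul, ← Finset.prod_smul]
      exact Finset.prod_congr rfl fun i _ => swap p u χ hu hχ hχp hrk (φ i).2 (y i).2 (x i).2
    rw [sub_smul, sub_eq_zero, h2, smul_comm, h3, smul_smul]
  rw [← sub_eq_zero]
  obtain ⟨_, _⟩ := Invertible.finite_projective (A := A) p u χ hu hχ hrk j
  refine RankOne.eq_zero_of_smul_eq_zero (M := OortTate.eigenAug R A p χ j)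
    (Invertible.rankAtStalk_eq_one p u χ hu hχ hχp hrk j) _ fun z => ?_
  apply Subtype.ext
  have hz : (z : A) ∈ OortTate.eigenAug R A p χ 1 ^ j := by
    rw [Invertible.pow_eq p u χ hu hχ hχp hrk j hj hjp]; exact z.2
  rw [Submodule.pow_eq_span_pow_set] at hz
  change _ • (z : A) = 0
  refine Submodule.span_induction ?_ (smul_zero _) ?_ ?_ hz
  · intro a ha
    obtain ⟨f, rfl⟩ := Set.mem_pow.mp ha
    rw [List.prod_ofFn]
    exact key f
  · intro a b _ _ ha hb; rw [smul_add, ha, hb, add_zero]
  · intro c a _ ha; rw [smul_comm, ha, smul_zero]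

include hu hχ hχp hrk in
theorem pairing_spec (δ : A ⊗[R] CartDual.D R A)
    (hδ : ∀ a : A, TensorProduct.rid R A
      (LinearMap.lTensor A ((Module.Dual.eval R A a) ∘ₗ (CartDual.toDual R A).toLinearMap) δ) = a)
    (ϕ : MonoidAlgebra R (Multiplicative (ZMod p)) →ₐ[R] A ⊗[R] CartDual.D R A)
    (hϕ : ϕ (OortTate.muT R p) = δ) :
    Submodule.span R {ϕ (OortTate.ygen R p u χ 1)} =
        LinearMap.range (TensorProduct.map (OortTate.eigenAug R A p χ 1).subtype
          (OortTate.eigenAug R (CartDual.D R A) p χ 1).subtype) ∧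
      ∀ r : R, r • ϕ (OortTate.ygen R p u χ 1) = 0 → r = 0 := by
  have hp := Invertible.conv_pow_p p hrk
  have hδ' : psi R A δ = toConv LinearMap.id := by
    apply WithConv.ext; ext a
    refine Eq.trans ?_ (hδ a)
    clear hδ hϕ
    induction δ using TensorProduct.induction_on with
    | zero => simp
    | tmul b φ => rw [psi_tmul]; simp [CartDual.coe_apply]
    | add s t hs ht => simp [map_add, hs, ht]
  have hcomp : (psi R A).comp ϕ = Mu.lam p hp := by
    have hT : psi R A (ϕ (OortTate.muT R p)) = Mu.lam p hp (OortTate.muT R p) := by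
      rw [hϕ, hδ']
      apply WithConv.ext; ext a
      rw [OortTate.muT, MonoidAlgebra.of_apply, Mu.lam_single]
      simp [ZMod.val_one, powConv_one]
    refine AlgHom.ext fun z => ?_
    induction z using MonoidAlgebra.induction_on with
    | add z z' hz hz' => rw [map_add, map_add, hz, hz']
    | smul r z hz => rw [map_smul, map_smul, hz]
    | of g =>
    rw [MonoidAlgebra.of_apply]
    have hg : (MonoidAlgebra.single g (1 : R)) = OortTate.muT R p ^ (g.toAdd).val := by
      rw [OortTate.muT, ← map_pow (MonoidAlgebra.of R (Multiplicative (ZMod p))), MonoidAlgebra.of_apply, ← ofAdd_nsmul, nsmul_one,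
        ZMod.natCast_zmod_val, ofAdd_toAdd]
    rw [hg, map_pow, map_pow, AlgHom.comp_apply, hT]
  have hy : psi R A (ϕ (OortTate.ygen R p u χ 1)) = toConv (eproj R A p u χ 1) := by
    rw [← Mu.lam_ygen p u χ hp, ← hcomp]; rfl
  have hsub : ∀ t : OortTate.eigenAug R A p χ 1 ⊗[R] OortTate.eigenAug R (CartDual.D R A) p χ 1,
      ∃ r : R, psi R A (TensorProduct.map (OortTate.eigenAug R A p χ 1).subtype
          (OortTate.eigenAug R (CartDual.D R A) p χ 1).subtype t) = r • toConv (eproj R A p u χ 1) := by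
    intro t
    induction t using TensorProduct.induction_on with
    | zero => exact ⟨0, by simp⟩
    | tmul y φ => exact ⟨_, psi_tmul_eigen p u χ hu hχ hχp hrk φ.2 y.2⟩
    | add s t hs ht =>
      obtain ⟨r, hr⟩ := hs
      obtain ⟨r', hr'⟩ := ht
      exact ⟨r + r', by rw [map_add, map_add, hr, hr', add_smul]⟩
  obtain ⟨_, _⟩ := Invertible.finite_projective (A := A) p u χ hu hχ hrk 1
  let I := OortTate.eigenAug R A p χ 1
  let P : A →ₗ[R] I := (eproj R A p u χ 1).codRestrict _ (eproj_mem p u χ hp 1)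
  have hlift : ∀ t : Module.Dual R I ⊗[R] I,
      ∃ s, psi R A (TensorProduct.map I.subtype (OortTate.eigenAug R (CartDual.D R A) p χ 1).subtype s) =
        toConv (I.subtype ∘ₗ dualTensorHom R I I t ∘ₗ P) := by
    intro t
    induction t using TensorProduct.induction_on with
    | zero => exact ⟨0, by simp⟩
    | tmul ψ y =>
      obtain ⟨φ, hφ⟩ := (dual_restrict_bijective p u χ hu hχ hp 1).2 ψ
      refine ⟨y ⊗ₜ φ, ?_⟩
      apply WithConv.ext; ext x
      rw [TensorProduct.map_tmul, psi_tmul]
      have h := dual_apply_eproj p u χ hu hχ 1 1 φ.2 x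
      rw [if_pos rfl] at h
      change (φ : CartDual.D R A) x • (y : A) = ((ψ (P x) • y : I) : A)
      rw [← h, ← hφ]
      rfl
    | add s t hs ht =>
      obtain ⟨r, hr⟩ := hs
      obtain ⟨r', hr'⟩ := ht
      exact ⟨r + r', by simp [map_add, hr, hr', LinearMap.add_comp, LinearMap.comp_add]⟩
  refine ⟨le_antisymm ?_ ?_, fun r hr => ?_⟩
  · rw [Submodule.span_singleton_le_iff_mem]
    obtain ⟨t, ht⟩ := (dualTensorHom_bijective (R := R) (M := I) (N := I)).2 LinearMap.id
    obtain ⟨s, hs⟩ := hlift t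
    refine ⟨s, psi_injective ?_⟩
    rw [hs, hy, ht]
    rfl
  · rintro z ⟨t, rfl⟩
    obtain ⟨r, hr⟩ := hsub t
    refine Submodule.mem_span_singleton.mpr ⟨r, psi_injective ?_⟩
    rw [map_smul, hy, hr]
  · apply eq_zero_of_smul_eproj p u χ hu hχ hχp hrk
    rw [← hy, ← map_smul, hr, map_zero]

end

end Groth.Agent.OortTate.Pairing
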