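import Groth.Agent.OortTate.Pairing
import Mathlib.RingTheory.Bialgebra.Equiv

/-!
# A group of order `p` is determined by `(I_1, a, b)`
-/

open Coalgebra Bialgebra TensorProduct WithConv
open scoped Pointwise

universe u

namespace Groth.Agent.OortTate.Classify

open Groth.Agent.OortTate.Eigen

noncomputable section

variable {R : Type u} [CommRing R] (p : ℕ) [hp' : Fact p.Prime] (u : R) (χ : (ZMod p)ˣ →* Rˣ)
  (hu : u * ((p - 1 : ℕ) : R) = 1) (hχ : ∀ m : (ZMod p)ˣ, m ≠ 1 → IsUnit ((χ m : R) - 1))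
  (hχp : ∀ m : (ZMod p)ˣ, ((χ m : Rˣ) : R) - (((m : ZMod p).val : ℕ) : R) ∈ Ideal.span ({(p : R)} : Set R))

section One

variable {A : Type u} [CommRing A] [HopfAlgebra R A] [Module.Finite R A] [Module.Projective R A]
  (hrk : ∀ q : PrimeSpectrum R, Module.rankAtStalk A q = p)

include hu hχ hχp hrk in
theorem submodule_eq_top (K : Submodule R A) (h1 : (1 : A) ∈ K)
    (h : ∀ k, 1 ≤ k → k ≤ p - 1 → ∀ f : Fin k → OortTate.eigenAug R A p χ 1, (∏ i, (f i : A)) ∈ K) :
    K = ⊤ := by
  rw [eq_top_iff]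
  intro a _
  have hp := Invertible.conv_pow_p p hrk
  have ha := augProj_eq_sum p u χ hu hχ hp a
  rw [augProj, LinearMap.sub_apply, sub_eq_iff_eq_add] at ha
  rw [show a = _ from ha]
  refine add_mem (sum_mem fun i _ => ?_) ?_
  · have hi := eproj_mem p u χ hp (i : ℕ) a
    obtain ⟨h2, h3⟩ := Rank.one_le_rep p (i : ℕ)
    rw [← eigenAug_mod p χ (i : ℕ), ← Rank.rep_mod p (i : ℕ), eigenAug_mod p χ,
      ← Invertible.pow_eq p u χ hu hχ hχp hrk _ h2 h3, Submodule.pow_eq_span_pow_set] at hi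
    refine Submodule.span_le.mpr ?_ hi
    intro z hz
    obtain ⟨f, rfl⟩ := Set.mem_pow.mp hz
    rw [List.prod_ofFn]
    exact h _ h2 h3 f
  · simp only [LinearMap.comp_apply, Algebra.linearMap_apply, Algebra.algebraMap_eq_smul_one]
    exact Submodule.smul_mem _ _ h1

include hu hχ hχp hrk in
theorem hom_ext {C : Type u} [CommRing C] [Algebra R C] {f g : A →ₐ[R] C}
    (h : ∀ x : OortTate.eigenAug R A p χ 1, f (x : A) = g (x : A)) : f = g :=
  AlgHom.ext_of_adjoin_eq_top (Structure.adjoin_eq_top p u χ hu hχ hχp hrk) fun x hx => h ⟨x, hx⟩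

include hu hχ hχp hrk in
/-- algebra maps out of `A` from compatible linear maps on `I_1` -/
theorem exists_hom {C : Type u} [CommRing C] [Algebra R C] (g : OortTate.eigenAug R A p χ 1 →ₗ[R] C)
    (hg : ∀ (f : Fin p → OortTate.eigenAug R A p χ 1) (z : OortTate.eigenAug R A p χ 1),
      (z : A) = ∏ i, (f i : A) → g z = ∏ i, g (f i)) :
    ∃ h : A →ₐ[R] C, ∀ x : OortTate.eigenAug R A p χ 1, h (x : A) = g x := by
  obtain ⟨hs, hk⟩ := Structure.presentation p u χ hu hχ hχp hrk
  let G := TensorAlgebra.lift R g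
  have hle : RingHom.ker (Structure.liftI R A p χ).toRingHom ≤ RingHom.ker G.toRingHom := by
    change RingHom.ker (Structure.liftI R A p χ) ≤ RingHom.ker G
    rw [hk, Ideal.span_le]
    rintro _ ⟨f, z, hz, rfl⟩
    rw [SetLike.mem_coe, RingHom.mem_ker, map_sub, map_list_prod, List.map_ofFn, sub_eq_zero]
    simp only [G, TensorAlgebra.lift_ι_apply, hg f z hz]
    rw [List.prod_ofFn]
    exact Finset.prod_congr rfl fun i _ => by simp
  let h₀ := (Structure.liftI R A p χ).toRingHom.liftOfSurjective hs ⟨G.toRingHom, hle⟩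
  have hh : ∀ t, h₀ (Structure.liftI R A p χ t) = G t := fun t => by
    have := RingHom.liftOfRightInverse_comp_apply (Structure.liftI R A p χ).toRingHom
      (Function.surjInv hs) (Function.rightInverse_surjInv hs) ⟨G.toRingHom, hle⟩ t
    exact this
  refine ⟨{ h₀ with commutes' := fun r => ?_ }, fun x => ?_⟩
  · change h₀ (algebraMap R A r) = _
    rw [← AlgHom.commutes (Structure.liftI R A p χ) r, hh, AlgHom.commutes]
  · change h₀ (x : A) = g x
    have h2 := hh (TensorAlgebra.ι R x)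
    simpa [Structure.liftI, G] using h2

end One

section Two

variable {A : Type u} [CommRing A] [HopfAlgebra R A] [Coalgebra.IsCocomm R A] [Module.Finite R A]
  [Module.Projective R A] (hrk : ∀ q : PrimeSpectrum R, Module.rankAtStalk A q = p)
  {A' : Type u} [CommRing A'] [HopfAlgebra R A'] [Coalgebra.IsCocomm R A'] [Module.Finite R A']
  [Module.Projective R A'] (hrk' : ∀ q : PrimeSpectrum R, Module.rankAtStalk A' q = p)
  (θ : OortTate.eigenAug R A p χ 1 ≃ₗ[R] OortTate.eigenAug R A' p χ 1)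
  (hθ : ∀ (f : Fin p → OortTate.eigenAug R A p χ 1) (g : OortTate.eigenAug R A p χ 1),
    (g : A) = ∏ i, (f i : A) → ((θ g : OortTate.eigenAug R A' p χ 1) : A') = ∏ i, ((θ (f i)) : A'))
  (hθD : ∀ (φ : Fin p → OortTate.eigenAug R (CartDual.D R A) p χ 1)
    (φ' : Fin p → OortTate.eigenAug R (CartDual.D R A') p χ 1)
    (ψ : OortTate.eigenAug R (CartDual.D R A) p χ 1) (ψ' : OortTate.eigenAug R (CartDual.D R A') p χ 1),
    (∀ i, ∀ x : OortTate.eigenAug R A p χ 1,
      CartDual.toDual R A (φ i : CartDual.D R A) (x : A) =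
        CartDual.toDual R A' (φ' i : CartDual.D R A') ((θ x : OortTate.eigenAug R A' p χ 1) : A')) →
    (ψ : CartDual.D R A) = ∏ i, (φ i : CartDual.D R A) →
    (ψ' : CartDual.D R A') = ∏ i, (φ' i : CartDual.D R A') →
    ∀ x : OortTate.eigenAug R A p χ 1,
      CartDual.toDual R A (ψ : CartDual.D R A) (x : A) =
        CartDual.toDual R A' (ψ' : CartDual.D R A') ((θ x : OortTate.eigenAug R A' p χ 1) : A'))

include hu hχ hχp hrk hrk' hθ hθD in
theorem nonempty_equiv : Nonempty (A ≃ₐc[R] A') := by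
  have hp := Invertible.conv_pow_p p hrk
  have hp'' := Invertible.conv_pow_p p hrk'
  have hDrk' := Pairing.rank_dual p hrk'
  -- the algebra isomorphism
  obtain ⟨φ, hφ⟩ := exists_hom p u χ hu hχ hχp hrk
    ((OortTate.eigenAug R A' p χ 1).subtype ∘ₗ θ.toLinearMap) (fun f z hz => hθ f z hz)
  obtain ⟨φi, hφi⟩ := exists_hom p u χ hu hχ hχp hrk'
    ((OortTate.eigenAug R A p χ 1).subtype ∘ₗ θ.symm.toLinearMap) (fun f z hz => by
      let g₀ : OortTate.eigenAug R A p χ 1 :=
        ⟨∏ i, (θ.symm (f i) : A), by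
          have h := Structure.prod_mem p χ hp'.out.one_le (fun i => θ.symm (f i))
          rwa [Structure.eigen_self] at h⟩
      have h1 := hθ (fun i => θ.symm (f i)) g₀ rfl
      simp only [LinearEquiv.apply_symm_apply] at h1
      rw [← hz] at h1
      have h2 : θ.symm z = g₀ := θ.symm_apply_eq.mpr (Subtype.ext h1.symm)
      simp [h2, g₀])
  have hφ' : ∀ x : OortTate.eigenAug R A p χ 1, φ (x : A) = (θ x : A') := hφ
  have hφi' : ∀ x : OortTate.eigenAug R A' p χ 1, φi (x : A') = (θ.symm x : A) := hφi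
  let e : A ≃ₐ[R] A' := AlgEquiv.ofAlgHom φ φi
    (hom_ext p u χ hu hχ hχp hrk' fun x => by simp [hφi', hφ'])
    (hom_ext p u χ hu hχ hχp hrk fun x => by simp [hφi', hφ'])
  -- the counit
  have hcounit : (Bialgebra.counitAlgHom R A').comp φ = Bialgebra.counitAlgHom R A :=
    hom_ext p u χ hu hχ hχp hrk fun x => by
      rw [AlgHom.comp_apply, hφ']
      exact ((mem_eigenAug p χ).mp (θ x).2).1.trans ((mem_eigenAug p χ).mp x.2).1.symm
  -- the transpose on `I_1`
  let restrict : OortTate.eigenAug R (CartDual.D R A) p χ 1 →ₗ[R] Module.Dual R (OortTate.eigenAug R A p χ 1) :=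
    (OortTate.eigenAug R A p χ 1).subtype.dualMap ∘ₗ (CartDual.toDual R A).toLinearMap ∘ₗ
      (OortTate.eigenAug R (CartDual.D R A) p χ 1).subtype
  let restrict' : OortTate.eigenAug R (CartDual.D R A') p χ 1 →ₗ[R] Module.Dual R (OortTate.eigenAug R A' p χ 1) :=
    (OortTate.eigenAug R A' p χ 1).subtype.dualMap ∘ₗ (CartDual.toDual R A').toLinearMap ∘ₗ
      (OortTate.eigenAug R (CartDual.D R A') p χ 1).subtype
  let er := LinearEquiv.ofBijective restrict (dual_restrict_bijective p u χ hu hχ hp 1)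
  let τ : OortTate.eigenAug R (CartDual.D R A') p χ 1 →ₗ[R] OortTate.eigenAug R (CartDual.D R A) p χ 1 :=
    er.symm.toLinearMap ∘ₗ θ.toLinearMap.dualMap ∘ₗ restrict'
  have hτ : ∀ ψ' (x : OortTate.eigenAug R A p χ 1),
      (τ ψ' : CartDual.D R A) (x : A) = (ψ' : CartDual.D R A') (θ x : A') := fun ψ' x =>
    LinearMap.congr_fun (er.apply_symm_apply (θ.toLinearMap.dualMap (restrict' ψ'))) x
  obtain ⟨c, hc⟩ := exists_hom p u χ hu hχ hχp hDrk'
    ((OortTate.eigenAug R (CartDual.D R A) p χ 1).subtype ∘ₗ τ) (fun f z hz => by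
      let ψ : OortTate.eigenAug R (CartDual.D R A) p χ 1 :=
        ⟨∏ i, (τ (f i) : CartDual.D R A), by
          have h := Structure.prod_mem p χ hp'.out.one_le (fun i => τ (f i))
          rwa [Structure.eigen_self] at h⟩
      have h1 := hθD (fun i => τ (f i)) f ψ z (fun i x => hτ (f i) x) rfl hz
      have h2 : τ z = ψ := er.injective (LinearMap.ext fun x => (hτ z x).trans (h1 x).symm)
      simp [h2, ψ])
  have hc' : ∀ x : OortTate.eigenAug R (CartDual.D R A') p χ 1, c (x : CartDual.D R A') = (τ x : CartDual.D R A) :=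
    hc
  -- `c` is the transpose of `φ`
  let G : CartDual.D R A' →ₗ[R] (A →ₗ[R] R) :=
    { toFun := fun ψ => (c ψ).ofConv - ψ.ofConv ∘ₗ φ.toLinearMap
      map_add' := fun a b => by
        rw [map_add]; simp only [WithConv.ofConv_add, LinearMap.add_comp]; abel
      map_smul' := fun r a => by
        rw [map_smul]; simp [WithConv.ofConv_smul, LinearMap.smul_comp, smul_sub] }
  have hG : LinearMap.ker G = ⊤ := by
    refine submodule_eq_top p u χ hu hχ hχp hDrk' _ ?_ ?_
    · rw [LinearMap.mem_ker]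
      apply LinearMap.ext
      intro a
      change (c 1) a - (1 : CartDual.D R A') (φ a) = 0
      rw [map_one, LinearMap.convOne_apply, LinearMap.convOne_apply]
      have h1 : counit (R := R) (φ a) = counit (R := R) a := AlgHom.congr_fun hcounit a
      rw [h1, sub_self]
    · intro j hj hjp f
      rw [LinearMap.mem_ker]
      have hcf : c (∏ i, (f i : CartDual.D R A')) = ∏ i, (τ (f i) : CartDual.D R A) := by
        rw [map_prod]; simp only [hc']
      have hM := Structure.prod_mem (A := CartDual.D R A') p χ hj f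
      have hM' := Structure.prod_mem (A := CartDual.D R A) p χ hj (fun i => τ (f i))
      refine LinearMap.ker_eq_top.mp (submodule_eq_top p u χ hu hχ hχp hrk _ ?_ ?_)
      · rw [LinearMap.mem_ker]
        change (c (∏ i, (f i : CartDual.D R A'))) 1 - (∏ i, (f i : CartDual.D R A')) (φ 1) = 0
        rw [hcf, map_one φ, ((mem_eigenAug_dual p χ).mp hM').1, ((mem_eigenAug_dual p χ).mp hM).1, sub_zero]
      · intro k hk hkp g
        rw [LinearMap.mem_ker]
        change (c (∏ i, (f i : CartDual.D R A'))) (∏ i, (g i : A)) -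
          (∏ i, (f i : CartDual.D R A')) (φ (∏ i, (g i : A))) = 0
        rw [hcf, map_prod φ]
        simp only [hφ']
        have hM1 := Structure.prod_mem (A := A') p χ hk (fun i => θ (g i))
        by_cases hjk : j = k
        · subst hjk
          rw [Pairing.prod_apply p u χ hu hχ hχp hrk hj hjp, Pairing.prod_apply p u χ hu hχ hχp hrk' hj hjp]
          simp [hτ]
        · have hne : j % (p - 1) ≠ k % (p - 1) := by
            intro hmod
            apply hjk
            rcases eq_or_lt_of_le hjp with h4 | h4 <;> rcases eq_or_lt_of_le hkp with h5 | h5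
            · omega
            · rw [h4, Nat.mod_self, Nat.mod_eq_of_lt h5] at hmod; omega
            · rw [h5, Nat.mod_self, Nat.mod_eq_of_lt h4] at hmod; omega
            · rw [Nat.mod_eq_of_lt h4, Nat.mod_eq_of_lt h5] at hmod; omega
          rw [dual_apply_of_ne p u χ hu hχ hne hM' (Structure.prod_mem p χ hk g),
            dual_apply_of_ne p u χ hu hχ hne hM hM1, sub_zero]
  have hct : ∀ (ψ : CartDual.D R A') (a : A), (c ψ) a = ψ (φ a) := fun ψ a =>
    sub_eq_zero.mp (LinearMap.congr_fun (LinearMap.mem_ker.mp (hG ▸ Submodule.mem_top : ψ ∈ LinearMap.ker G)) a)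
  -- comultiplication
  refine ⟨BialgEquiv.ofAlgEquiv e hcounit (AlgHom.ext fun a => ?_)⟩
  refine FinHopf.Cocomm.eq_of_forall_ev₂ fun x y => ?_
  change CartDual.ev₂ R A' (x ⊗ₜ y) (Algebra.TensorProduct.map φ φ (comul a)) =
    CartDual.ev₂ R A' (x ⊗ₜ y) (comul (φ a))
  have hev : ∀ {B : Type u} [CommRing B] [HopfAlgebra R B] [Module.Finite R B] [Module.Projective R B]
      (x y : CartDual.D R B) (b : B), CartDual.ev₂ R B (x ⊗ₜ y) (comul b) = (x * y) b := by
    intro B _ _ _ _ x y b
    rw [LinearMap.convMul_apply, ← (ℛ R b).eq]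
    simp [map_sum, CartDual.coe_apply]
  rw [hev, ← hct, map_mul, ← hev]
  generalize comul (R := R) a = t
  induction t using TensorProduct.induction_on with
  | zero => simp
  | tmul b d => simp [hct]
  | add s t hs ht => simp [map_add, hs, ht]

end Two

section Free

variable {A : Type u} [CommRing A] [HopfAlgebra R A] [Coalgebra.IsCocomm R A] [Module.Finite R A]
  [Module.Projective R A] (hrk : ∀ q : PrimeSpectrum R, Module.rankAtStalk A q = p)

omit [Coalgebra.IsCocomm R A] in
include hu hχ hχp hrk in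
theorem exists_coord {x : A} (hx : Submodule.span R {x} = OortTate.eigenAug R A p χ 1) :
    ∃ e : R ≃ₗ[R] OortTate.eigenAug R A p χ 1, ∀ r, (e r : A) = r • x := by
  have hmem : ∀ r : R, LinearMap.toSpanSingleton R A x r ∈ OortTate.eigenAug R A p χ 1 := fun r => by
    rw [← hx]; exact Submodule.mem_span_singleton.mpr ⟨r, rfl⟩
  refine ⟨LinearEquiv.ofBijective ((LinearMap.toSpanSingleton R A x).codRestrict _ hmem) ⟨?_, ?_⟩, fun r => rfl⟩
  · rw [injective_iff_map_eq_zero]
    intro r hr
    obtain ⟨_, _⟩ := Invertible.finite_projective (A := A) p u χ hu hχ hrk 1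
    refine RankOne.eq_zero_of_smul_eq_zero (M := OortTate.eigenAug R A p χ 1)
      (Invertible.rankAtStalk_eq_one p u χ hu hχ hχp hrk 1) r fun z => ?_
    obtain ⟨s, hs⟩ := Submodule.mem_span_singleton.mp (hx.symm ▸ z.2 : (z : A) ∈ Submodule.span R {x})
    apply Subtype.ext
    change r • (z : A) = 0
    have h0 : r • x = 0 := congrArg Subtype.val hr
    rw [← hs, smul_comm, h0, smul_zero]
  · intro z
    obtain ⟨s, hs⟩ := Submodule.mem_span_singleton.mp (hx.symm ▸ z.2 : (z : A) ∈ Submodule.span R {x})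
    exact ⟨s, Subtype.ext hs⟩

variable {A' : Type u} [CommRing A'] [HopfAlgebra R A'] [Coalgebra.IsCocomm R A'] [Module.Finite R A']
  [Module.Projective R A'] (hrk' : ∀ q : PrimeSpectrum R, Module.rankAtStalk A' q = p)
  (x : A) (hx : Submodule.span R {x} = OortTate.eigenAug R A p χ 1)
  (ξ : CartDual.D R A) (hξ : Submodule.span R {ξ} = OortTate.eigenAug R (CartDual.D R A) p χ 1)
  (hxξ : CartDual.toDual R A ξ x = 1)
  (x' : A') (hx' : Submodule.span R {x'} = OortTate.eigenAug R A' p χ 1)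
  (ξ' : CartDual.D R A') (hξ' : Submodule.span R {ξ'} = OortTate.eigenAug R (CartDual.D R A') p χ 1)
  (hxξ' : CartDual.toDual R A' ξ' x' = 1)
  (α β α' β' : R) (hα : x ^ p = α • x) (hβ : ξ ^ p = β • ξ) (hα' : x' ^ p = α' • x') (hβ' : ξ' ^ p = β' • ξ')
  (v : Rˣ) (hαv : α' = ((v ^ (p - 1) : Rˣ) : R) * α) (hβv : β' = ((v⁻¹ ^ (p - 1) : Rˣ) : R) * β)

include hu hχ hχp hrk hrk' hx hξ hxξ hx' hξ' hxξ' hα hβ hα' hβ' hαv hβv in
theorem nonempty_equiv_of_free : Nonempty (A ≃ₐc[R] A') := by
  obtain ⟨ex, hex⟩ := exists_coord p u χ hu hχ hχp hrk hx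
  obtain ⟨ex', hex'⟩ := exists_coord p u χ hu hχ hχp hrk' hx'
  let θ := (ex.symm ≪≫ₗ LinearEquiv.smulOfUnit v⁻¹) ≪≫ₗ ex'
  set c : R := ((v⁻¹ : Rˣ) : R) with hc
  have hθ : ∀ r : R, (θ (ex r) : A') = (c * r) • x' := fun r => by
    simp [θ, hex', hc, LinearEquiv.smulOfUnit, DistribMulAction.toLinearEquiv, Units.smul_def]
  have h1 : c ^ (p - 1) * α' = α := by
    rw [hαv, ← mul_assoc, Units.val_pow_eq_pow_val, ← mul_pow, hc, Units.inv_mul, one_pow, one_mul]
  have h2 : c ^ (p - 1) * β = β' := by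
    rw [hβv, Units.val_pow_eq_pow_val]
  have hpow : c ^ p = c ^ (p - 1) * c := by
    rw [← pow_succ, Nat.sub_add_cancel hp'.out.one_le]
  refine nonempty_equiv p u χ hu hχ hχp hrk hrk' θ (fun f g hfg => ?_) (fun φ φ' ψ ψ' hφ hψ hψ' z => ?_)
  · obtain ⟨s, rfl⟩ := ex.surjective g
    have hs : ∀ i, ∃ r, ex r = f i := fun i => ex.surjective _
    choose r hr using hs
    simp only [← hr] at hfg ⊢
    simp only [hex, Finset.prod_smul, Finset.prod_const, Finset.card_univ, Fintype.card_fin, hα, smul_smul] at hfg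
    have hs' : s = (∏ i, r i) * α := by
      apply ex.injective
      apply Subtype.ext
      rw [hex, hex, hfg]
    simp only [hθ, Finset.prod_smul, Finset.prod_const, Finset.card_univ, Fintype.card_fin, hα', smul_smul,
      Finset.prod_mul_distrib, hs']
    rw [hpow, ← h1]
    congr 1
    ring
  · have hcoef : ∀ {B : Type u} [CommRing B] [HopfAlgebra R B] [Coalgebra.IsCocomm R B] [Module.Finite R B]
        [Module.Projective R B] {ζ : CartDual.D R B}
        (_ : Submodule.span R {ζ} = OortTate.eigenAug R (CartDual.D R B) p χ 1)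
        (η : OortTate.eigenAug R (CartDual.D R B) p χ 1), ∃ r : R, (η : CartDual.D R B) = r • ζ := by
      intro B _ _ _ _ _ ζ hζ η
      obtain ⟨r, hr⟩ := Submodule.mem_span_singleton.mp (hζ.symm ▸ η.2 : (η : CartDual.D R B) ∈ Submodule.span R {ζ})
      exact ⟨r, hr.symm⟩
    choose r hr using fun i => hcoef hξ (φ i)
    choose t ht using fun i => hcoef hξ' (φ' i)
    rw [CartDual.toDual_apply] at hxξ hxξ'
    have hrt : ∀ i, r i = t i * c := fun i => by
      have := hφ i (ex 1)
      rw [hex, hθ, hr, ht] at this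
      simpa [hxξ, hxξ', mul_comm] using this
    obtain ⟨s, rfl⟩ := ex.surjective z
    rw [hψ, hψ', hex, hθ]
    simp only [hr, ht, hrt, Finset.prod_smul, Finset.prod_const, Finset.card_univ, Fintype.card_fin, hβ, hβ',
      Finset.prod_mul_distrib, hpow, ← h2]
    simp [hxξ, hxξ']
    ring

end Free

end

end Groth.Agent.OortTate.Classify
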