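import Groth.Prelude.Def_W4c5ffgsreadingcourseOT
import Groth.Prelude.Def_CartDual
import Groth.Agent.FinHopf.Deligne
import Mathlib.RingTheory.IntegralDomain
import Mathlib.FieldTheory.Finite.Basic
import Mathlib.Algebra.Field.ZMod
import Mathlib.Algebra.Ring.GeomSum

/-!
# Eigen decomposition of the augmentation ideal under the power maps
-/

open Coalgebra Bialgebra TensorProduct WithConv

universe u v

namespace Groth.Agent.OortTate.Eigen

open Groth.Agent.FinHopf.Deligne

noncomputable section

variable {R : Type u} [CommRing R] {A : Type u} [CommRing A] [HopfAlgebra R A]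

theorem toConv_powConv (n : ℕ) : toConv (SGA3b.powConv R A n) = (toConv (AlgHom.id R A)) ^ n := by
  simp [SGA3b.powConv]

theorem postHom_id {T : Type*} [CommRing T] [Algebra R T] (f : WithConv (A →ₐ[R] T)) :
    postHom f.ofConv (toConv (AlgHom.id R A)) = f := rfl

theorem comp_powConv {T : Type*} [CommRing T] [Algebra R T] (f : WithConv (A →ₐ[R] T)) (n : ℕ) :
    toConv (f.ofConv.comp (SGA3b.powConv R A n)) = f ^ n := by
  change postHom f.ofConv ((toConv (AlgHom.id R A)) ^ n) = f ^ n
  rw [map_pow, postHom_id]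

theorem powConv_comp (a b : ℕ) :
    (SGA3b.powConv R A a).comp (SGA3b.powConv R A b) = SGA3b.powConv R A (a * b) := by
  apply WithConv.toConv_injective
  refine (comp_powConv (toConv (SGA3b.powConv R A a)) b).trans ?_
  rw [toConv_powConv, ← pow_mul, ← toConv_powConv]

theorem powConv_one : SGA3b.powConv R A 1 = AlgHom.id R A := by simp [SGA3b.powConv]

theorem counit_powConv (n : ℕ) (a : A) : counit (R := R) (SGA3b.powConv R A n a) = counit a := by
  have h : postHom (Bialgebra.counitAlgHom R A) (toConv (AlgHom.id R A)) = (1 : WithConv (A →ₐ[R] R)) := by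
    apply WithConv.ext; ext x; simp [postHom, AlgHom.convOne_def]
  have h2 : postHom (Bialgebra.counitAlgHom R A) ((toConv (AlgHom.id R A)) ^ n) = 1 := by
    rw [map_pow, h, one_pow]
  have h3 := AlgHom.congr_fun (congrArg WithConv.ofConv h2) a
  simpa [postHom, AlgHom.convOne_def, SGA3b.powConv] using h3

/-- `a ↦ a - ε(a)` -/
def augProj (R A : Type u) [CommRing R] [CommRing A] [HopfAlgebra R A] : A →ₗ[R] A :=
  LinearMap.id - Algebra.linearMap R A ∘ₗ counit

theorem counit_augProj (a : A) : counit (R := R) (augProj R A a) = 0 := by simp [augProj]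

theorem augProj_of_mem {a : A} (ha : counit (R := R) a = 0) : augProj R A a = a := by simp [augProj, ha]

theorem sum_char_eq_zero {G : Type*} [Group G] [Fintype G] (φ : G →* Rˣ) (g : G)
    (hg : IsUnit ((φ g : R) - 1)) : ∑ x : G, (φ x : R) = 0 := by
  have h : ((φ g : R) - 1) * ∑ x : G, (φ x : R) = 0 := by
    rw [sub_mul, one_mul, Finset.mul_sum, sub_eq_zero]
    exact Fintype.sum_equiv (Equiv.mulLeft g) _ _ fun x => by simp
  exact hg.mul_right_eq_zero.mp h

section Char

variable (p : ℕ) [hp' : Fact p.Prime] (u : R) (χ : (ZMod p)ˣ →* Rˣ)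

theorem char_pow_pred (m : (ZMod p)ˣ) : ((χ m : Rˣ) : R) ^ (p - 1) = 1 := by
  rw [← Units.val_pow_eq_pow_val, ← map_pow, ← ZMod.card_units p, _root_.pow_card_eq_one, map_one, Units.val_one]

theorem char_pow_mod (m : (ZMod p)ˣ) (i : ℕ) :
    ((χ m : Rˣ) : R) ^ (i % (p - 1)) = ((χ m : Rˣ) : R) ^ i := by
  conv_rhs => rw [← Nat.mod_add_div i (p - 1), pow_add, pow_mul, char_pow_pred, one_pow, mul_one]

theorem eigenAug_mod (i : ℕ) :
    OortTate.eigenAug R A p χ (i % (p - 1)) = OortTate.eigenAug R A p χ i := by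
  simp [OortTate.eigenAug, char_pow_mod p χ]

theorem mem_eigenAug {i : ℕ} {f : A} :
    f ∈ OortTate.eigenAug R A p χ i ↔ counit (R := R) f = 0 ∧
      ∀ m : (ZMod p)ˣ, SGA3b.powConv R A (m : ZMod p).val f = ((χ m : Rˣ) : R) ^ i • f := by
  simp [OortTate.eigenAug, Submodule.mem_iInf]

theorem proj_apply (i : ℕ) (f : A) :
    OortTate.proj R A p u χ i f =
      u • ∑ m : (ZMod p)ˣ, (((χ m⁻¹ : Rˣ) : R) ^ i) • SGA3b.powConv R A (m : ZMod p).val f := by
  simp [OortTate.proj, LinearMap.sum_apply]

theorem counit_proj (i : ℕ) {f : A} (hf : counit (R := R) f = 0) :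
    counit (R := R) (OortTate.proj R A p u χ i f) = 0 := by
  rw [proj_apply]; simp [counit_powConv, hf, map_sum]

variable (hu : u * ((p - 1 : ℕ) : R) = 1) (hχ : ∀ m : (ZMod p)ˣ, m ≠ 1 → IsUnit ((χ m : R) - 1))

include hu hχ in
theorem sum_char_pow (i j : ℕ) :
    u * ∑ m : (ZMod p)ˣ, ((χ m⁻¹ : Rˣ) : R) ^ i * ((χ m : Rˣ) : R) ^ j =
      if i % (p - 1) = j % (p - 1) then 1 else 0 := by
  split_ifs with h
  · have : ∀ m : (ZMod p)ˣ, ((χ m⁻¹ : Rˣ) : R) ^ i * ((χ m : Rˣ) : R) ^ j = 1 := by
      intro m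
      rw [← char_pow_mod p χ m⁻¹ i, ← char_pow_mod p χ m j, h, ← mul_pow, ← Units.val_mul, ← map_mul,
        inv_mul_cancel, map_one, Units.val_one, one_pow]
    simp only [this, Finset.sum_const, Finset.card_univ, ZMod.card_units, nsmul_eq_mul, mul_one]
    exact hu
  · obtain ⟨g, hg⟩ := IsCyclic.exists_ofOrder_eq_natCard (α := (ZMod p)ˣ)
    rw [Nat.card_eq_fintype_card, ZMod.card_units] at hg
    let φ : (ZMod p)ˣ →* Rˣ :=
      { toFun := fun m => χ m⁻¹ ^ i * χ m ^ j
        map_one' := by simp
        map_mul' := fun a b => by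
          rw [mul_inv, map_mul, map_mul, mul_pow, mul_pow]; exact mul_mul_mul_comm _ _ _ _ }
    have hsum := sum_char_eq_zero φ g (by
      have hne : g⁻¹ ^ i * g ^ j ≠ 1 := by
        intro h1
        apply h
        rw [inv_pow, inv_mul_eq_one] at h1
        have h2 := pow_inj_mod.mp h1
        rwa [hg] at h2
      have h3 : φ g = χ (g⁻¹ ^ i * g ^ j) := by simp [φ]
      rw [h3]
      exact hχ _ hne)
    have h4 : ∀ m, (φ m : R) = ((χ m⁻¹ : Rˣ) : R) ^ i * ((χ m : Rˣ) : R) ^ j := fun m => by simp [φ]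
    simp only [h4] at hsum
    rw [hsum, mul_zero]

include hu hχ in
theorem proj_of_mem {i j : ℕ} {f : A} (hf : f ∈ OortTate.eigenAug R A p χ j) :
    OortTate.proj R A p u χ i f = if i % (p - 1) = j % (p - 1) then f else 0 := by
  rw [proj_apply]
  simp only [(mem_eigenAug p χ).mp hf |>.2, smul_smul, ← Finset.sum_smul]
  rw [sum_char_pow p u χ hu hχ]
  split_ifs <;> simp

theorem proj_of_mem_ker_pow (i : ℕ) (hp : (toConv (AlgHom.id R A)) ^ p = 1) {f : A}
    (hf : counit (R := R) f = 0) : OortTate.proj R A p u χ i f ∈ OortTate.eigenAug R A p χ i := by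
  rw [mem_eigenAug]
  refine ⟨counit_proj p u χ i hf, fun n => ?_⟩
  rw [proj_apply, map_smul, map_sum, smul_comm (((χ n : Rˣ) : R) ^ i) u (_ : A), Finset.smul_sum (r := ((χ n : Rˣ) : R) ^ i)]
  congr 1
  refine Fintype.sum_equiv (Equiv.mulLeft n) _ _ fun m => ?_
  rw [Equiv.coe_mulLeft, map_smul, smul_smul]
  congr 1
  · rw [← mul_pow, ← Units.val_mul, ← map_mul, mul_inv_rev]
    congr 3
    rw [mul_left_comm, mul_inv_cancel, mul_one]
  · rw [← AlgHom.comp_apply, powConv_comp]
    congr 1
    apply WithConv.toConv_injective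
    rw [toConv_powConv, toConv_powConv, pow_eq_pow_mod _ hp, ← ZMod.val_mul]
    rfl

variable (hp : (toConv (AlgHom.id R A)) ^ p = 1)

include hp hu hχ in
theorem sum_proj {f : A} (hf : counit (R := R) f = 0) :
    ∑ i : Fin (p - 1), OortTate.proj R A p u χ (i : ℕ) f = f := by
  simp only [proj_apply, ← Finset.smul_sum]
  rw [Finset.sum_comm]
  simp only [← Finset.sum_smul]
  rw [Fintype.sum_eq_single 1]
  · have h0 : ∑ i : Fin (p - 1), ((χ (1 : (ZMod p)ˣ)⁻¹ : Rˣ) : R) ^ (i : ℕ) = ((p - 1 : ℕ) : R) := by simp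
    rw [h0, Units.val_one, ZMod.val_one, powConv_one, smul_smul, hu, one_smul]
    rfl
  · intro m hm
    have h1 : IsUnit (((χ m⁻¹ : Rˣ) : R) - 1) := hχ _ (by simpa using hm)
    have h2 := geom_sum_mul ((χ m⁻¹ : Rˣ) : R) (p - 1)
    rw [char_pow_pred, sub_self] at h2
    rw [Fin.sum_univ_eq_sum_range (fun i => ((χ m⁻¹ : Rˣ) : R) ^ i), h1.mul_left_eq_zero.mp h2, zero_smul]

include hp hu hχ in
theorem decomposition :
    iSupIndep (fun i : Fin (p - 1) => OortTate.eigenAug R A p χ (i : ℕ)) ∧
      (⨆ i : Fin (p - 1), OortTate.eigenAug R A p χ (i : ℕ)) =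
        LinearMap.ker (Bialgebra.counitAlgHom R A).toLinearMap ∧
      ∀ i : Fin (p - 1), OortTate.eigenAug R A p χ (i : ℕ) =
        Submodule.map (OortTate.proj R A p u χ (i : ℕ))
          (LinearMap.ker (Bialgebra.counitAlgHom R A).toLinearMap) := by
  refine ⟨fun i => ?_, ?_, fun i => ?_⟩
  · rw [Submodule.disjoint_def]
    intro x hx hx'
    have h1 : OortTate.proj R A p u χ (i : ℕ) x = x := by rw [proj_of_mem p u χ hu hχ hx, if_pos rfl]
    have h2 : (⨆ j, ⨆ (_ : j ≠ i), OortTate.eigenAug R A p χ (j : ℕ)) ≤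
        LinearMap.ker (OortTate.proj R A p u χ (i : ℕ)) := by
      refine iSup₂_le fun j hj y hy => ?_
      rw [LinearMap.mem_ker, proj_of_mem p u χ hu hχ hy, if_neg]
      rw [Nat.mod_eq_of_lt i.isLt, Nat.mod_eq_of_lt j.isLt]
      exact fun h => hj (Fin.ext h.symm)
    rw [← h1]
    exact h2 hx'
  · refine le_antisymm (iSup_le fun i => inf_le_left) fun f hf => ?_
    rw [← sum_proj p u χ hu hχ hp (f := f) hf]
    exact Submodule.sum_mem _ fun i _ =>
      Submodule.mem_iSup_of_mem i (proj_of_mem_ker_pow p u χ i hp hf)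
  · ext f
    constructor
    · intro hf
      exact ⟨f, ((mem_eigenAug p χ).mp hf).1, by rw [proj_of_mem p u χ hu hχ hf, if_pos rfl]⟩
    · rintro ⟨g, hg, rfl⟩
      exact proj_of_mem_ker_pow p u χ i hp hg

/-- the projection of `A` onto the `i`-th eigenspace -/
def eproj (R A : Type u) [CommRing R] [CommRing A] [HopfAlgebra R A] (p : ℕ) [Fact p.Prime] (u : R)
    (χ : (ZMod p)ˣ →* Rˣ) (i : ℕ) : A →ₗ[R] A :=
  OortTate.proj R A p u χ i ∘ₗ augProj R A

include hp in
theorem eproj_mem (i : ℕ) (f : A) : eproj R A p u χ i f ∈ OortTate.eigenAug R A p χ i :=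
  proj_of_mem_ker_pow p u χ i hp (counit_augProj f)

include hu hχ in
theorem eproj_of_mem {i j : ℕ} {f : A} (hf : f ∈ OortTate.eigenAug R A p χ j) :
    eproj R A p u χ i f = if i % (p - 1) = j % (p - 1) then f else 0 := by
  rw [eproj, LinearMap.comp_apply, augProj_of_mem ((mem_eigenAug p χ).mp hf).1, proj_of_mem p u χ hu hχ hf]

theorem eproj_one (i : ℕ) : eproj R A p u χ i 1 = 0 := by simp [eproj, augProj]

include hp hu hχ in
theorem augProj_eq_sum (f : A) : augProj R A f = ∑ i : Fin (p - 1), eproj R A p u χ (i : ℕ) f :=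
  (sum_proj p u χ hu hχ hp (counit_augProj f)).symm

theorem eigenAug_mul {i j : ℕ} {f g : A} (hf : f ∈ OortTate.eigenAug R A p χ i)
    (hg : g ∈ OortTate.eigenAug R A p χ j) : f * g ∈ OortTate.eigenAug R A p χ (i + j) := by
  rw [mem_eigenAug] at hf hg ⊢
  refine ⟨by simp [hf.1], fun m => ?_⟩
  rw [map_mul, hf.2, hg.2, smul_mul_smul_comm, pow_add]

end Char

section Dual

variable [Module.Finite R A] [Module.Projective R A] [Coalgebra.IsCocomm R A]

/-- the power maps of the dual are the transposes of the power maps -/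
theorem dual_powConv (n : ℕ) (x : CartDual.D R A) (a : A) :
    (SGA3b.powConv R (CartDual.D R A) n x) a = x (SGA3b.powConv R A n a) := by
  induction n generalizing x a with
  | zero =>
    simp [SGA3b.powConv, LinearMap.convAlgebraMap_apply, CartDual.coe_apply,
      Algebra.algebraMap_eq_smul_one, mul_comm]
  | succ n ih =>
    have h1 : SGA3b.powConv R (CartDual.D R A) (n + 1) x =
        LinearMap.mul' R _ (TensorProduct.map (SGA3b.powConv R (CartDual.D R A) n).toLinearMap LinearMap.id
          (comul x)) := by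
      simp only [SGA3b.powConv, pow_succ]
      rw [AlgHom.convMul_apply]
      generalize comul (R := R) x = t
      induction t using TensorProduct.induction_on with
      | zero => simp
      | tmul y z => simp
      | add t t' ht ht' => simp [map_add, ht, ht']
    have h2 : ∀ y : CartDual.D R A ⊗[R] CartDual.D R A,
        (LinearMap.mul' R _ (TensorProduct.map (SGA3b.powConv R (CartDual.D R A) n).toLinearMap LinearMap.id y)) a =
          CartDual.ev₂ R A y (TensorProduct.map (SGA3b.powConv R A n).toLinearMap LinearMap.id (comul a)) := by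
      intro y
      induction y using TensorProduct.induction_on with
      | zero => simp
      | tmul y z =>
        rw [TensorProduct.map_tmul, LinearMap.mul'_apply, LinearMap.convMul_apply]
        generalize comul (R := R) a = t
        induction t using TensorProduct.induction_on with
        | zero => simp
        | tmul b c =>
          change (SGA3b.powConv R (CartDual.D R A) n y) b * z c = _
          rw [ih, TensorProduct.map_tmul, CartDual.ev₂_tmul]
          rfl
        | add t t' ht ht' => simp only [map_add, ht, ht']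
      | add y y' hy hy' => simp only [map_add, WithConv.ofConv_add, LinearMap.add_apply, hy, hy']
    rw [h1, h2, CartDual.comul_def, CartDual.ev₂_comul]
    change x.ofConv _ = x.ofConv _
    congr 1

variable (p : ℕ) [hp' : Fact p.Prime] (u : R) (χ : (ZMod p)ˣ →* Rˣ)

theorem mem_eigenAug_dual {i : ℕ} {φ : CartDual.D R A} :
    φ ∈ OortTate.eigenAug R (CartDual.D R A) p χ i ↔
      φ 1 = 0 ∧ ∀ (m : (ZMod p)ˣ) (a : A), φ (SGA3b.powConv R A (m : ZMod p).val a) = ((χ m : Rˣ) : R) ^ i * φ a := by
  rw [mem_eigenAug]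
  refine and_congr (by rw [CartDual.counit_def, CartDual.counit_apply]) (forall_congr' fun m => ?_)
  constructor
  · intro h a; rw [← dual_powConv, h]; rfl
  · intro h; apply WithConv.ext; ext a; exact (dual_powConv _ φ a).trans (h a)

theorem dual_conv_pow_eq_one (hp : (toConv (AlgHom.id R A)) ^ p = 1) :
    (toConv (AlgHom.id R (CartDual.D R A))) ^ p = 1 := by
  apply WithConv.ext; ext1 x; apply WithConv.ext; ext a
  have := dual_powConv p x a
  simp only [SGA3b.powConv] at this
  rw [this, hp]
  simp [LinearMap.convAlgebraMap_apply, CartDual.coe_apply, Algebra.algebraMap_eq_smul_one, mul_comm]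

variable (hu : u * ((p - 1 : ℕ) : R) = 1) (hχ : ∀ m : (ZMod p)ˣ, m ≠ 1 → IsUnit ((χ m : R) - 1))
  (hp : (toConv (AlgHom.id R A)) ^ p = 1)

include hu hχ in
/-- a dual eigenform factors through the projection -/
theorem dual_apply_eproj (i k : ℕ) {φ : CartDual.D R A} (hφ : φ ∈ OortTate.eigenAug R (CartDual.D R A) p χ i) (a : A) :
    φ (eproj R A p u χ k a) = if k % (p - 1) = i % (p - 1) then φ a else 0 := by
  rw [mem_eigenAug_dual] at hφ
  have h1 : φ (augProj R A a) = φ a := by
    simp [augProj, Algebra.algebraMap_eq_smul_one, hφ.1]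
  rw [eproj, LinearMap.comp_apply, proj_apply, map_smul, map_sum, smul_eq_mul, ← h1]
  simp only [map_smul, hφ.2, smul_eq_mul, ← mul_assoc]
  rw [← Finset.sum_mul, ← mul_assoc, sum_char_pow p u χ hu hχ]
  split_ifs <;> simp

include hu hχ in
theorem dual_apply_of_ne {i j : ℕ} (hij : i % (p - 1) ≠ j % (p - 1)) {φ : CartDual.D R A}
    (hφ : φ ∈ OortTate.eigenAug R (CartDual.D R A) p χ i) {f : A} (hf : f ∈ OortTate.eigenAug R A p χ j) :
    φ f = 0 := by
  have h := dual_apply_eproj p u χ hu hχ i j hφ f
  rwa [eproj_of_mem p u χ hu hχ hf, if_pos rfl, if_neg (Ne.symm hij)] at h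

include hu hχ hp in
theorem dual_restrict_bijective (i : ℕ) :
    Function.Bijective (fun f : OortTate.eigenAug R (CartDual.D R A) p χ i =>
      ((CartDual.toDual R A) (f : CartDual.D R A)).comp (OortTate.eigenAug R A p χ i).subtype) := by
  constructor
  · intro f g hfg
    apply Subtype.ext; apply WithConv.ext; ext a
    have h1 := dual_apply_eproj p u χ hu hχ i i f.2 a
    have h2 := dual_apply_eproj p u χ hu hχ i i g.2 a
    rw [if_pos rfl] at h1 h2
    rw [← h1, ← h2]
    exact LinearMap.congr_fun hfg ⟨_, eproj_mem p u χ hp i a⟩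
  · intro ψ
    refine ⟨⟨toConv (ψ ∘ₗ (eproj R A p u χ i).codRestrict _ (eproj_mem p u χ hp i)), ?_⟩, ?_⟩
    · rw [mem_eigenAug_dual]
      refine ⟨?_, fun m a => ?_⟩
      · change ψ ((eproj R A p u χ i).codRestrict _ (eproj_mem p u χ hp i) 1) = 0
        rw [show (eproj R A p u χ i).codRestrict _ (eproj_mem p u χ hp i) 1 = 0 from
          Subtype.ext (eproj_one p u χ i), map_zero]
      · change ψ _ = _ * ψ _
        rw [← smul_eq_mul, ← map_smul]
        congr 1
        apply Subtype.ext
        change eproj R A p u χ i (SGA3b.powConv R A (m : ZMod p).val a) = (χ m : R) ^ i • eproj R A p u χ i a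
        rw [← ((mem_eigenAug p χ).mp (eproj_mem p u χ hp i a)).2 m]
        have h1 : augProj R A (SGA3b.powConv R A (m : ZMod p).val a) =
            SGA3b.powConv R A (m : ZMod p).val (augProj R A a) := by
          simp [augProj, counit_powConv, AlgHom.commutes]
        simp only [eproj, LinearMap.comp_apply, h1, proj_apply, map_smul, map_sum]
        congr 1
        refine Finset.sum_congr rfl fun n _ => ?_
        congr 1
        rw [← AlgHom.comp_apply, ← AlgHom.comp_apply, powConv_comp, powConv_comp, Nat.mul_comm]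
    · ext x
      change ψ _ = ψ x
      congr 1
      apply Subtype.ext
      change eproj R A p u χ i x = (x : A)
      rw [eproj_of_mem p u χ hu hχ x.2, if_pos rfl]

end Dual

/-- restriction of forms to the augmentation ideal -/
theorem dual_restrict_ker_counit_bijective (R : Type u) [CommRing R] (A : Type v) [CommRing A] [HopfAlgebra R A]
    [Module.Finite R A] [Module.Projective R A] :
    Function.Bijective (fun f : LinearMap.ker (Bialgebra.counitAlgHom R (CartDual.D R A)).toLinearMap =>
      ((CartDual.toDual R A) (f : CartDual.D R A)).comp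
        (LinearMap.ker (Bialgebra.counitAlgHom R A).toLinearMap).subtype) := by
  have hdec : ∀ a : A, a - algebraMap R A (counit (R := R) a) ∈
      LinearMap.ker (Bialgebra.counitAlgHom R A).toLinearMap := fun a => by
    simp [LinearMap.mem_ker]
  constructor
  · intro f g hfg
    apply Subtype.ext; apply WithConv.ext; ext a
    have hf : (f : CartDual.D R A) 1 = 0 := f.2
    have hg : (g : CartDual.D R A) 1 = 0 := g.2
    have h := LinearMap.congr_fun hfg ⟨_, hdec a⟩
    change (f : CartDual.D R A) (a - algebraMap R A (counit a)) = (g : CartDual.D R A) (a - algebraMap R A (counit a)) at h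
    simpa [Algebra.algebraMap_eq_smul_one, hf, hg, map_sub] using h
  · intro ψ
    let P : A →ₗ[R] LinearMap.ker (Bialgebra.counitAlgHom R A).toLinearMap :=
      (LinearMap.id - Algebra.linearMap R A ∘ₗ counit).codRestrict _ hdec
    refine ⟨⟨toConv (ψ ∘ₗ P), ?_⟩, ?_⟩
    · change ψ (P 1) = 0
      rw [show P 1 = 0 from Subtype.ext (by change (1 : A) - algebraMap R A (counit 1) = 0; simp), map_zero]
    · ext x
      change ψ (P x) = ψ x
      congr 1
      have hx : counit (R := R) (x : A) = 0 := x.2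
      exact Subtype.ext (by change (x : A) - algebraMap R A (counit (x : A)) = x; simp [hx])

end

end Groth.Agent.OortTate.Eigen
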