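import Groth.Agent.OortTate.Rank
import Groth.Agent.OortTate.BaseChange
import Mathlib.FieldTheory.IsAlgClosed.AlgebraicClosure
import Mathlib.RingTheory.LocalRing.ResidueField.Ideal

/-!
# The eigenspaces of a group of order `p` are invertible and `I_1 ^ t = I_t`
-/

open Coalgebra Bialgebra TensorProduct WithConv
open scoped Pointwise

universe u

namespace Groth.Agent.OortTate.Invertible

open Groth.Agent.OortTate.Eigen Groth.Agent.OortTate.BaseChange Groth.Agent.OortTate.Rank

noncomputable section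

variable {R : Type u} [CommRing R] {A : Type u} [CommRing A] [HopfAlgebra R A] [Module.Finite R A]
  [Module.Projective R A] (p : ℕ) [hp' : Fact p.Prime] (u : R) (χ : (ZMod p)ˣ →* Rˣ)
  (hu : u * ((p - 1 : ℕ) : R) = 1) (hχ : ∀ m : (ZMod p)ˣ, m ≠ 1 → IsUnit ((χ m : R) - 1))
  (hχp : ∀ m : (ZMod p)ˣ, ((χ m : Rˣ) : R) - (((m : ZMod p).val : ℕ) : R) ∈ Ideal.span ({(p : R)} : Set R))
  (hrk : ∀ q : PrimeSpectrum R, Module.rankAtStalk A q = p)

include hrk in
theorem conv_pow_p : (toConv (AlgHom.id R A)) ^ p = 1 := by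
  have : Coalgebra.IsCocomm R A := Groth.Agent.FinHopf.OrderP.isCocomm p hrk
  exact Groth.Agent.FinHopf.Deligne.convPow_id_eq_one p hrk

include hu hχ hχp hrk in
theorem geometric_fibre (K : Type u) [Field K] [IsAlgClosed K] [Algebra R K] :
    ∃ f ∈ OortTate.eigenAug K (K ⊗[R] A) p (charBC K p χ) 1, ∀ i : ℕ, f ^ rep p i ≠ 0 ∧
      OortTate.eigenAug K (K ⊗[R] A) p (charBC K p χ) i = Submodule.span K {f ^ rep p i} :=
  field_structure p (algebraMap R K u) (charBC K p χ)
    (Groth.Agent.FinHopf.OrderP.finrank_tensor p hrk K) (conv_pow_eq_one K (conv_pow_p p hrk))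
    (hu_bc K p u hu) (hχ_bc K p χ hχ) (hχp_bc K p χ hχp)

include hu hχ hrk in
theorem finite_projective (i : ℕ) :
    Module.Finite R (OortTate.eigenAug R A p χ i) ∧ Module.Projective R (OortTate.eigenAug R A p χ i) := by
  let r : A →ₗ[R] OortTate.eigenAug R A p χ i :=
    (eproj R A p u χ i).codRestrict _ (eproj_mem p u χ (conv_pow_p p hrk) i)
  have hr : r ∘ₗ (OortTate.eigenAug R A p χ i).subtype = LinearMap.id := by
    ext x
    change eproj R A p u χ i x = (x : A)
    rw [eproj_of_mem p u χ hu hχ x.2, if_pos rfl]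
  exact ⟨Module.Finite.of_surjective r fun x => ⟨x, LinearMap.congr_fun hr x⟩, Module.Projective.of_split _ r hr⟩

include hu hχ hχp hrk in
theorem rankAtStalk_eq_one (i : ℕ) (q : PrimeSpectrum R) :
    Module.rankAtStalk (OortTate.eigenAug R A p χ i) q = 1 := by
  obtain ⟨hfin, hproj⟩ := finite_projective p u χ hu hχ hrk i
  let K := AlgebraicClosure q.asIdeal.ResidueField
  obtain ⟨f, -, hf⟩ := geometric_fibre p u χ hu hχ hχp hrk K
  have h1 := (eigenEquiv K p u χ hu hχ (conv_pow_p p hrk) i).finrank_eq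
  rw [(hf i).2, finrank_span_singleton (hf i).1] at h1
  let q' : PrimeSpectrum K := ⟨⊥, Ideal.isPrime_bot⟩
  have h2 := Module.rankAtStalk_baseChange (M := OortTate.eigenAug R A p χ i) q' (R := R)
  rw [Module.rankAtStalk_eq_finrank_of_free] at h2
  have h3 : q'.comap (algebraMap R K) = q := by
    apply PrimeSpectrum.ext
    ext r
    simp only [q', PrimeSpectrum.comap_asIdeal, Ideal.mem_comap, Ideal.mem_bot]
    rw [IsScalarTower.algebraMap_apply R q.asIdeal.ResidueField K, FaithfulSMul.algebraMap_eq_zero_iff,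
      Ideal.algebraMap_residueField_eq_zero]
  rw [h3] at h2
  exact h2.symm.trans h1

include hu hχ hχp hrk in
theorem pow_eq (t : ℕ) (ht : 1 ≤ t) (htp : t ≤ p - 1) :
    (OortTate.eigenAug R A p χ 1) ^ t = OortTate.eigenAug R A p χ t := by
  have hp := conv_pow_p p hrk
  set I := OortTate.eigenAug R A p χ 1
  have hle : ∀ t, 1 ≤ t → I ^ t ≤ OortTate.eigenAug R A p χ t := by
    intro t ht
    induction t, ht using Nat.le_induction with
    | base => rw [pow_one]
    | succ t _ ih =>
      rw [pow_succ]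
      refine Submodule.mul_le.mpr fun a ha b hb => ?_
      exact eigenAug_mul p χ (ih ha) hb
  set N : Submodule R A := I ^ t ⊔ LinearMap.ker (eproj R A p u χ t)
  suffices hN : N = ⊤ by
    refine le_antisymm (hle t ht) fun x hx => ?_
    obtain ⟨s, hs, n, hn, rfl⟩ := Submodule.mem_sup.mp (hN ▸ trivial : x ∈ N)
    have h1 := eproj_of_mem p u χ hu hχ hx (i := t)
    rw [if_pos rfl, map_add, eproj_of_mem p u χ hu hχ (hle t ht hs), if_pos rfl, LinearMap.mem_ker.mp hn,
      add_zero] at h1
    rw [← h1]; exact hs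
  rw [← Submodule.Quotient.subsingleton_iff, ← Module.support_eq_empty_iff (R := R), Set.eq_empty_iff_forall_notMem]
  intro q hq
  rw [Module.mem_support_iff_nontrivial_residueField_tensorProduct] at hq
  let K := AlgebraicClosure q.asIdeal.ResidueField
  suffices hzero : Subsingleton (K ⊗[R] (A ⧸ N)) by
    have e := TensorProduct.AlgebraTensorModule.cancelBaseChange R q.asIdeal.ResidueField K K (A ⧸ N)
    have : Subsingleton (K ⊗[q.asIdeal.ResidueField] (q.asIdeal.ResidueField ⊗[R] (A ⧸ N))) := e.toEquiv.subsingleton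
    exact not_nontrivial_iff_subsingleton.mpr this inferInstance
  obtain ⟨f, hf1, hf⟩ := geometric_fibre p u χ hu hχ hχp hrk K
  let φ := N.mkQ.baseChange K
  -- the base change of `I ^ t` contains the eigenspace
  have hkey : OortTate.eigenAug K (K ⊗[R] A) p (charBC K p χ) t ≤ LinearMap.ker φ := by
    have hspan : Submodule.span K ((fun x : A => (1 : K) ⊗ₜ[R] x) '' (I : Set A)) ^ t ≤ LinearMap.ker φ := by
      rw [Submodule.span_pow, Submodule.span_le]
      intro z hz
      have : z ∈ (fun x : A => (1 : K) ⊗ₜ[R] x) '' ((I : Set A) ^ t) := by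
        change z ∈ (Algebra.TensorProduct.includeRight : A →ₐ[R] K ⊗[R] A) '' _
        rw [Set.image_pow]
        exact hz
      obtain ⟨x, hx, rfl⟩ := this
      have hxN : x ∈ N := Submodule.mem_sup_left (Submodule.pow_subset_pow _ hx)
      simp [φ, (Submodule.Quotient.mk_eq_zero N).mpr hxN]
    rw [(hf t).2, Submodule.span_singleton_le_iff_mem]
    have hrep : rep p t = t := by
      unfold rep
      rcases eq_or_lt_of_le htp with h | h
      · simp [h]
      · rw [if_neg (by rw [Nat.mod_eq_of_lt h]; omega), Nat.mod_eq_of_lt h]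
    rw [hrep]
    rw [← eigen_eq_span K p u χ hu hχ hp 1] at hspan
    exact hspan (Submodule.pow_mem_pow _ hf1 t)
  refine subsingleton_of_forall_eq 0 fun z => ?_
  induction z using TensorProduct.induction_on with
  | zero => rfl
  | add x y hx hy => rw [hx, hy, add_zero]
  | tmul c y =>
    obtain ⟨a, rfl⟩ := Submodule.Quotient.mk_surjective N y
    have h1 : a - eproj R A p u χ t a ∈ N := Submodule.mem_sup_right (by
      rw [LinearMap.mem_ker, map_sub, eproj_of_mem p u χ hu hχ (eproj_mem p u χ hp t a), if_pos rfl, sub_self])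
    rw [← (Submodule.Quotient.eq N).mpr h1 |>.symm]
    have h2 := hkey (tmul_mem K p u χ hu hχ hp (eproj_mem p u χ hp t a))
    rw [LinearMap.mem_ker] at h2
    have h3 : c ⊗ₜ[R] (Submodule.Quotient.mk (eproj R A p u χ t a) : A ⧸ N) =
        c • φ ((1 : K) ⊗ₜ[R] eproj R A p u χ t a) := by
      simp [φ, TensorProduct.smul_tmul']
    have h4 : (Submodule.Quotient.mk a : A ⧸ N) = Submodule.Quotient.mk (eproj R A p u χ t a) :=
      (Submodule.Quotient.eq N).mpr h1
    rw [h3, h2, smul_zero]

include hu hχ hχp hrk in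
theorem result :
    (∀ i : ℕ, Module.Finite R (OortTate.eigenAug R A p χ i) ∧
        Module.Projective R (OortTate.eigenAug R A p χ i) ∧
        ∀ q : PrimeSpectrum R, Module.rankAtStalk (↥(OortTate.eigenAug R A p χ i)) q = 1) ∧
      ∀ t : ℕ, 1 ≤ t → t ≤ p - 1 →
        (OortTate.eigenAug R A p χ 1) ^ t = OortTate.eigenAug R A p χ t :=
  ⟨fun i => ⟨(finite_projective p u χ hu hχ hrk i).1, (finite_projective p u χ hu hχ hrk i).2,
    rankAtStalk_eq_one p u χ hu hχ hχp hrk i⟩, pow_eq p u χ hu hχ hχp hrk⟩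

end

end Groth.Agent.OortTate.Invertible
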