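import Groth.Agent.OortTate.Structure

/-!
# The group algebra of `ℤ/p` (the Hopf algebra of `μ_p`) and the universal map to convolution endomorphisms
-/

open Coalgebra Bialgebra TensorProduct WithConv

universe u

namespace Groth.Agent.OortTate.Mu

open Groth.Agent.OortTate.Eigen Groth.Agent.FinHopf.Deligne

noncomputable section

variable {R : Type u} [CommRing R] (p : ℕ) [hp' : Fact p.Prime]

local notation "Bp" => MonoidAlgebra R (Multiplicative (ZMod p))

omit hp' in
theorem powConv_single {G : Type} [CommGroup G] (n : ℕ) (g : G) :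
    SGA3b.powConv R (MonoidAlgebra R G) n (MonoidAlgebra.single g 1) = MonoidAlgebra.single (g ^ n) 1 := by
  induction n with
  | zero => simp [SGA3b.powConv, AlgHom.convOne_apply]
  | succ n ih =>
    simp only [SGA3b.powConv] at ih
    simp only [SGA3b.powConv, pow_succ, AlgHom.convMul_apply, MonoidAlgebra.comul_single,
      CommSemiring.comul_apply, TensorProduct.map_tmul, MonoidAlgebra.lsingle_apply]
    simp [ih, MonoidAlgebra.single_mul_single]

theorem rank (q : PrimeSpectrum R) : Module.rankAtStalk Bp q = p := by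
  have : Nontrivial R := PrimeSpectrum.nontrivial q
  rw [Module.rankAtStalk_eq_finrank_of_free]
  simp [Module.finrank_eq_card_basis (MonoidAlgebra.basis (Multiplicative (ZMod p)) R)]

variable (u : R) (χ : (ZMod p)ˣ →* Rˣ)
  (hu : u * ((p - 1 : ℕ) : R) = 1) (hχ : ∀ m : (ZMod p)ˣ, m ≠ 1 → IsUnit ((χ m : R) - 1))
  (hχp : ∀ m : (ZMod p)ˣ, ((χ m : Rˣ) : R) - (((m : ZMod p).val : ℕ) : R) ∈ Ideal.span ({(p : R)} : Set R))

theorem conv_pow_p : (toConv (AlgHom.id R Bp)) ^ p = 1 :=
  Invertible.conv_pow_p p (rank p)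

theorem powConv_muT (m : ZMod p) :
    SGA3b.powConv R Bp m.val (OortTate.muT R p) = MonoidAlgebra.single (Multiplicative.ofAdd m) 1 := by
  rw [OortTate.muT, MonoidAlgebra.of_apply, powConv_single]
  congr 1
  rw [← ofAdd_nsmul, nsmul_one, ZMod.natCast_zmod_val]

omit hp' in
theorem counit_muT : counit (R := R) (OortTate.muT R p) = (1 : R) := by simp [OortTate.muT]

theorem ygen_mem (i : ℕ) : OortTate.ygen R p u χ i ∈ OortTate.eigenAug R Bp p χ i :=
  proj_of_mem_ker_pow p u χ i (conv_pow_p p) (by simp)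

/-- the projection commutes with the power maps -/
theorem proj_powConv {A : Type u} [CommRing A] [HopfAlgebra R A] (i n : ℕ) (f : A) :
    OortTate.proj R A p u χ i (SGA3b.powConv R A n f) =
      SGA3b.powConv R A n (OortTate.proj R A p u χ i f) := by
  simp only [proj_apply, map_smul, map_sum]
  congr 1
  refine Finset.sum_congr rfl fun m _ => ?_
  congr 1
  rw [← AlgHom.comp_apply, ← AlgHom.comp_apply, powConv_comp, powConv_comp, Nat.mul_comm]

theorem eproj_single_mem (i : ℕ) (g : Multiplicative (ZMod p)) :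
    eproj R Bp p u χ i (MonoidAlgebra.single g 1) ∈ Submodule.span R {OortTate.ygen R p u χ i} := by
  obtain ⟨m, rfl⟩ := Multiplicative.ofAdd.surjective g
  by_cases hm : m = 0
  · subst hm
    rw [ofAdd_zero, ← MonoidAlgebra.one_def, eproj_one]
    exact zero_mem _
  · have h1 : SGA3b.powConv R Bp m.val (OortTate.muT R p - 1) =
        augProj R Bp (MonoidAlgebra.single (Multiplicative.ofAdd m) 1) := by
      rw [map_sub, map_one, powConv_muT]; simp [augProj, MonoidAlgebra.one_def]
    have h2 := (mem_eigenAug p χ).mp (ygen_mem p u χ i) |>.2 (Units.mk0 m hm)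
    rw [eproj, LinearMap.comp_apply, ← h1, proj_powConv]
    simp only [Units.val_mk0] at h2
    change SGA3b.powConv R Bp m.val (OortTate.ygen R p u χ i) ∈ _
    rw [h2]
    exact Submodule.smul_mem _ _ (Submodule.mem_span_singleton_self _)

include hu hχ in
theorem eigen_eq_span (i : ℕ) :
    OortTate.eigenAug R Bp p χ i = Submodule.span R {OortTate.ygen R p u χ i} := by
  refine le_antisymm (fun f hf => ?_) ((Submodule.span_singleton_le_iff_mem _ _).mpr (ygen_mem p u χ i))
  have h : f = eproj R Bp p u χ i f := by rw [eproj_of_mem p u χ hu hχ hf, if_pos rfl]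
  rw [h]
  clear h hf
  induction f using MonoidAlgebra.induction_on with
  | of g => exact eproj_single_mem p u χ i g
  | add f g hf hg => rw [map_add]; exact add_mem hf hg
  | smul r f hf => rw [map_smul]; exact Submodule.smul_mem _ r hf

include hu hχ hχp in
theorem eq_zero_of_smul (i : ℕ) (r : R) (h : r • OortTate.ygen R p u χ i = 0) : r = 0 := by
  obtain ⟨_, _⟩ := Invertible.finite_projective (A := Bp) p u χ hu hχ (rank p) i
  refine RankOne.eq_zero_of_smul_eq_zero (M := OortTate.eigenAug R Bp p χ i)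
    (Invertible.rankAtStalk_eq_one p u χ hu hχ hχp (rank p) i) r fun x => ?_
  obtain ⟨x, hx⟩ := x
  obtain ⟨c, hc⟩ := Submodule.mem_span_singleton.mp (eigen_eq_span p u χ hu hχ i ▸ hx)
  apply Subtype.ext
  change r • x = 0
  rw [← hc, smul_comm, h, smul_zero]

include hu hχ in
theorem exists_w (j : ℕ) (hj : 1 ≤ j) :
    ∃ w : R, OortTate.ygen R p u χ 1 ^ j = w • OortTate.ygen R p u χ j := by
  have h : OortTate.ygen R p u χ 1 ^ j ∈ OortTate.eigenAug R Bp p χ j := by
    simpa using Structure.prod_mem (A := Bp) p χ hj (fun _ => ⟨_, ygen_mem p u χ 1⟩)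
  rw [eigen_eq_span p u χ hu hχ] at h
  obtain ⟨w, hw⟩ := Submodule.mem_span_singleton.mp h
  exact ⟨w, hw.symm⟩

include hu hχ hχp in
theorem ygen_spec :
    LinearIndependent R (fun i : Fin (p - 1) => OortTate.ygen R p u χ (i : ℕ)) ∧
      Submodule.span R (Set.range (fun i : Fin (p - 1) => OortTate.ygen R p u χ (i : ℕ))) =
        LinearMap.ker (Bialgebra.counitAlgHom R Bp).toLinearMap ∧
      Algebra.adjoin R ({OortTate.ygen R p u χ 1} : Set Bp) = ⊤ ∧
      ∃! w : R, OortTate.ygen R p u χ 1 ^ p = w • OortTate.ygen R p u χ 1 := by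
  refine ⟨?_, ?_, ?_, ?_⟩
  · rw [Fintype.linearIndependent_iff]
    intro c hc j
    apply eq_zero_of_smul p u χ hu hχ hχp (j : ℕ)
    have h := congrArg (eproj R Bp p u χ (j : ℕ)) hc
    rw [map_sum, map_zero, Finset.sum_eq_single j] at h
    · rwa [map_smul, eproj_of_mem p u χ hu hχ (ygen_mem p u χ j), if_pos rfl] at h
    · intro i _ hij
      rw [map_smul, eproj_of_mem p u χ hu hχ (ygen_mem p u χ i), if_neg, smul_zero]
      rw [Nat.mod_eq_of_lt i.isLt, Nat.mod_eq_of_lt j.isLt]
      exact fun h => hij (Fin.ext h.symm)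
    · intro h'; exact absurd (Finset.mem_univ j) h'
  · rw [← (decomposition p u χ hu hχ (conv_pow_p p)).2.1, Submodule.span_range_eq_iSup]
    exact iSup_congr fun i => (eigen_eq_span p u χ hu hχ _).symm
  · rw [← Structure.adjoin_eq_top p u χ hu hχ hχp (rank p), eigen_eq_span p u χ hu hχ, Algebra.adjoin_span]
  · have h : OortTate.ygen R p u χ 1 ^ p ∈ OortTate.eigenAug R Bp p χ p := by
      simpa using Structure.prod_mem (A := Bp) p χ hp'.out.one_le (fun _ => ⟨_, ygen_mem p u χ 1⟩)
    rw [Structure.eigen_self, eigen_eq_span p u χ hu hχ] at h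
    obtain ⟨w, hw⟩ := Submodule.mem_span_singleton.mp h
    refine ⟨w, hw.symm, fun w' hw' => ?_⟩
    rw [← sub_eq_zero]
    apply eq_zero_of_smul p u χ hu hχ hχp 1
    rw [sub_smul, ← hw', hw, sub_self]

section Lambda

variable {A : Type u} [CommRing A] [HopfAlgebra R A] [Coalgebra.IsCocomm R A]
  (hp : (toConv (AlgHom.id R A)) ^ p = 1)

/-- `g ↦ [g]` as a monoid hom into the convolution ring of endomorphisms -/
def powHom : Multiplicative (ZMod p) →* WithConv (A →ₗ[R] A) :=
  linHom.comp
    { toFun := fun g => (toConv (AlgHom.id R A)) ^ (g.toAdd).val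
      map_one' := by simp
      map_mul' := fun g h => by rw [← pow_add, toAdd_mul, ZMod.val_add, ← pow_eq_pow_mod _ hp] }

/-- the universal map `R[T]/(T ^ p - 1) → End R A` (convolution) -/
def lam : Bp →ₐ[R] WithConv (A →ₗ[R] A) := MonoidAlgebra.lift R _ _ (powHom p hp)

omit [Coalgebra.IsCocomm R A] in
theorem lam_single (g : Multiplicative (ZMod p)) (a : A) :
    lam p hp (MonoidAlgebra.single g 1) a = SGA3b.powConv R A (g.toAdd).val a := by
  rw [lam, MonoidAlgebra.lift_single, one_smul]
  rfl

theorem lam_muT_sub_one (m : (ZMod p)ˣ) (a : A) :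
    lam p hp (SGA3b.powConv R Bp (m : ZMod p).val (OortTate.muT R p - 1)) a =
      SGA3b.powConv R A (m : ZMod p).val (augProj R A a) := by
  rw [map_sub, map_one, powConv_muT, map_sub, map_one]
  simp [lam_single, augProj, map_sub, LinearMap.convOne_apply]

theorem lam_ygen (i : ℕ) : lam p hp (OortTate.ygen R p u χ i) = toConv (eproj R A p u χ i) := by
  apply WithConv.ext
  ext a
  change lam p hp (OortTate.proj R Bp p u χ i (OortTate.muT R p - 1)) a = eproj R A p u χ i a
  rw [eproj, LinearMap.comp_apply, proj_apply, proj_apply, map_smul, map_sum]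
  simp only [map_smul, WithConv.ofConv_smul, WithConv.ofConv_sum, LinearMap.smul_apply, LinearMap.coe_sum,
    Finset.sum_apply, lam_muT_sub_one p hp]

include hp in
theorem eproj_pow {j : ℕ} {w : R} (hw : OortTate.ygen R p u χ 1 ^ j = w • OortTate.ygen R p u χ j) :
    (toConv (eproj R A p u χ 1) : WithConv (A →ₗ[R] A)) ^ j = w • toConv (eproj R A p u χ j) := by
  rw [← lam_ygen p u χ hp, ← lam_ygen p u χ hp, ← map_pow, hw, map_smul]

end Lambda

end

end Groth.Agent.OortTate.Mu
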