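import Groth.Agent.OortTate.Eigen
import Groth.Agent.FinHopf.OrderP
import Mathlib.RingTheory.Support
import Mathlib.Algebra.Algebra.Operations

/-!
# The eigenspaces of a group of order `p` are invertible and are the powers of the first one
-/

open Coalgebra Bialgebra TensorProduct WithConv

universe u

namespace Groth.Agent.OortTate.Rank

open Groth.Agent.FinHopf.Deligne Groth.Agent.FinHopf.FieldOrderP Groth.Agent.OortTate.Eigen

noncomputable section

/-! ### over an algebraically closed field -/

section Field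

variable {K : Type u} [Field K] {B : Type u} [CommRing B] [HopfAlgebra K B]

theorem epsDer_powConv {d : B →ₗ[K] K} (hd : IsEpsDer d) (n : ℕ) (a : B) :
    d (SGA3b.powConv K B n a) = n * d a := by
  induction n generalizing a with
  | zero => simp [SGA3b.powConv, Algebra.algebraMap_eq_smul_one, hd.map_one]
  | succ n ih =>
    have h1 : ∀ t : B ⊗[K] B,
        d (LinearMap.mul' K B (TensorProduct.map (SGA3b.powConv K B n).toLinearMap LinearMap.id t)) =
          d (TensorProduct.lid K B ((counit (R := K) (A := B)).rTensor B t)) + n * d (evalRight counit t) := by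
      intro t
      induction t using TensorProduct.induction_on with
      | zero => simp
      | tmul x y =>
        rw [TensorProduct.map_tmul, LinearMap.mul'_apply, hd]
        simp only [AlgHom.toLinearMap_apply, LinearMap.id_apply, ih, counit_powConv]
        simp [mul_left_comm]
      | add t t' ht ht' => simp only [map_add, ht, ht']; ring
    have h2 : SGA3b.powConv K B (n + 1) a =
        LinearMap.mul' K B (TensorProduct.map (SGA3b.powConv K B n).toLinearMap LinearMap.id (comul a)) := by
      simp only [SGA3b.powConv, pow_succ]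
      rw [AlgHom.convMul_apply]
      generalize comul (R := K) a = t
      induction t using TensorProduct.induction_on with
      | zero => simp
      | tmul y z => simp
      | add t t' ht ht' => simp [map_add, ht, ht']
    rw [h2, h1, Coalgebra.rTensor_counit_comul, evalRight_counit_comul]
    simp [add_mul, add_comm]

variable [IsAlgClosed K] [FiniteDimensional K B] (p : ℕ) [hp' : Fact p.Prime] (u : K) (χ : (ZMod p)ˣ →* Kˣ)
  (hB : Module.finrank K B = p) (hp : (toConv (AlgHom.id K B)) ^ p = 1)
  (hu : u * ((p - 1 : ℕ) : K) = 1) (hχ : ∀ m : (ZMod p)ˣ, m ≠ 1 → IsUnit ((χ m : K) - 1))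
  (hχp : ∀ m : (ZMod p)ˣ, ((χ m : Kˣ) : K) - (((m : ZMod p).val : ℕ) : K) ∈ Ideal.span ({(p : K)} : Set K))

include hχp hB hp in
theorem exists_generator :
    ∃ f ∈ OortTate.eigenAug K B p χ 1, ∀ t, 1 ≤ t → t ≤ p - 1 → f ^ t ≠ 0 := by
  rcases order_prime_cases p hB with ⟨hchar, d, hd0, hd⟩ | ⟨hc, hinj⟩
  · have hrk : ∀ q : PrimeSpectrum K, Module.rankAtStalk B q = p := fun q => by
      rw [Module.rankAtStalk_eq_finrank_of_free]; simpa using hB
    have : Coalgebra.IsCocomm K B := Groth.Agent.FinHopf.OrderP.isCocomm p hrk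
    have hfac : ∀ i < p, (i.factorial : K) ≠ 0 := fun i hi h0 => by
      rw [CharP.cast_eq_zero_iff K p] at h0
      exact absurd ((Nat.Prime.dvd_factorial hp'.out).mp h0) (by omega)
    have hli := linearIndependent_pow hd hd0 p hfac
    have : Nonempty (Fin p) := ⟨⟨0, hp'.out.pos⟩⟩
    have hcard : Fintype.card (Fin p) = Module.finrank K (CartDual.D K B) := by
      rw [Fintype.card_fin, (CartDual.toDual K B).finrank_eq, Subspace.dual_finrank_eq, hB]
    let bas : Module.Basis (Fin p) K (CartDual.D K B) := basisOfLinearIndependentOfCardEqFinrank hli hcard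
    have hbas : ∀ j : Fin p, bas j = (toConv d : CartDual.D K B) ^ (j : ℕ) := fun j => by
      simp only [bas, coe_basisOfLinearIndependentOfCardEqFinrank]
    let one' : Fin p := ⟨1, hp'.out.one_lt⟩
    let f : B := (Module.evalEquiv K B).symm (bas.coord one' ∘ₗ (CartDual.toDual K B).symm.toLinearMap)
    have hf : ∀ φ : CartDual.D K B, φ f = bas.coord one' φ := fun φ => by
      change (CartDual.toDual K B φ) ((Module.evalEquiv K B).symm _) = _
      rw [Module.apply_evalEquiv_symm_apply]
      rfl
    have hfj : ∀ j : Fin p, ((toConv d : CartDual.D K B) ^ (j : ℕ)) f = if (j : ℕ) = 1 then 1 else 0 := fun j => by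
      rw [← hbas, hf, Module.Basis.coord_apply, Module.Basis.repr_self, Finsupp.single_apply]
      simp [one', Fin.ext_iff]
    have hεf : counit (R := K) f = 0 := by
      have := hfj ⟨0, hp'.out.pos⟩
      simpa using this
    refine ⟨f, (mem_eigenAug p χ).mpr ⟨hεf, fun m => ?_⟩, fun t ht1 ht2 h0 => ?_⟩
    · have hχm : ((χ m : Kˣ) : K) = (((m : ZMod p).val : ℕ) : K) := by
        have := hχp m
        rwa [CharP.cast_eq_zero, Ideal.span_singleton_eq_bot.mpr rfl, Ideal.mem_bot, sub_eq_zero] at this
      rw [pow_one, hχm]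
      set n := (m : ZMod p).val
      have hD : SGA3b.powConv K (CartDual.D K B) n (toConv d) = (n : K) • toConv d := by
        apply WithConv.ext; ext a
        exact (dual_powConv n _ a).trans (by simpa using epsDer_powConv hd n a)
      have key : ((Module.Dual.eval K B (SGA3b.powConv K B n f)) ∘ₗ (CartDual.toDual K B).toLinearMap) =
          (Module.Dual.eval K B ((n : K) • f)) ∘ₗ (CartDual.toDual K B).toLinearMap := by
        apply bas.ext; intro j
        change (bas j) (SGA3b.powConv K B n f) = (bas j) ((n : K) • f)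
        rw [← dual_powConv, hbas, map_pow, hD, smul_pow, map_smul]
        change (n : K) ^ (j : ℕ) * ((toConv d : CartDual.D K B) ^ (j : ℕ)) f =
          (n : K) * ((toConv d : CartDual.D K B) ^ (j : ℕ)) f
        rw [hfj]
        split_ifs with hj
        · rw [hj, pow_one]
        · simp only [mul_zero]
      apply (Module.evalEquiv K B).injective
      ext φ
      simpa using LinearMap.congr_fun key ((CartDual.toDual K B).symm φ)
    · let δ := invDerivation hd
      have hu1 : counit (R := K) (δ f) = 1 := by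
        change counit (R := K) (invDer d f) = 1
        rw [counit_invDer]
        have := hfj one'
        simpa [one'] using this
      have h := counit_iterate_pow δ hεf hu1 t 1
      rw [h0, zero_mul, map_zero, map_zero, Bialgebra.counit_one, mul_one] at h
      exact hfac t (by omega) h.symm
  · have : IsArtinianRing B := IsArtinianRing.of_finite K B
    obtain ⟨g, hg⟩ := exists_generator_point hc
    have hgp : g ^ p = 1 := by
      have := map_pow (postHom g.ofConv) (toConv (AlgHom.id K B)) p
      rw [hp, map_one, postHom_id] at this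
      exact this.symm
    let e := Equiv.ofBijective _ hg
    have : Fintype (WithConv (B →ₐ[K] K)) := Fintype.ofEquiv _ e
    let ev : B →ₗ[K] (WithConv (B →ₐ[K] K) → K) := LinearMap.pi fun g => g.ofConv.toLinearMap
    have hsurj : Function.Surjective ev :=
      (LinearMap.injective_iff_surjective_of_finrank_eq_finrank (by
        rw [Module.finrank_pi, hB, ← Nat.card_eq_fintype_card, hc])).mp hinj
    let F : WithConv (B →ₐ[K] K) → K := fun h =>
      if h0 : ((e.symm h : ℕ) : ZMod p) = 0 then 0 else ((χ (Units.mk0 _ h0) : Kˣ) : K)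
    obtain ⟨f, hf⟩ := hsurj F
    have hval : ∀ j : ℕ, (g ^ j : WithConv (B →ₐ[K] K)) f =
        if h0 : ((j : ℕ) : ZMod p) = 0 then 0 else ((χ (Units.mk0 _ h0) : Kˣ) : K) := by
      intro j
      have h1 : g ^ j = e ⟨j % p, Nat.mod_lt _ hp'.out.pos⟩ := pow_eq_pow_mod j hgp
      have h2 : (g ^ j : WithConv (B →ₐ[K] K)) f = F (g ^ j) := congrFun hf _
      rw [h2]
      simp only [F]
      rw [h1, Equiv.symm_apply_apply]
      simp [ZMod.natCast_mod]
    refine ⟨f, (mem_eigenAug p χ).mpr ⟨?_, fun m => ?_⟩, fun t ht1 ht2 h0 => ?_⟩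
    · have := hval 0
      simpa [AlgHom.convOne_def] using this
    · apply hinj
      funext h
      obtain ⟨j, rfl⟩ := hg.2 h
      change (g ^ (j : ℕ) : WithConv (B →ₐ[K] K)) (SGA3b.powConv K B (m : ZMod p).val f) =
        (g ^ (j : ℕ) : WithConv (B →ₐ[K] K)) (((χ m : Kˣ) : K) ^ 1 • f)
      have h3 := AlgHom.congr_fun (congrArg WithConv.ofConv
        (comp_powConv (g ^ (j : ℕ) : WithConv (B →ₐ[K] K)) (m : ZMod p).val)) f
      simp only [ofConv_toConv, AlgHom.comp_apply] at h3
      rw [h3, ← pow_mul, hval, map_smul, hval, pow_one]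
      have hcast : (((j : ℕ) * (m : ZMod p).val : ℕ) : ZMod p) = ((j : ℕ) : ZMod p) * (m : ZMod p) := by
        rw [Nat.cast_mul, ZMod.natCast_zmod_val]
      by_cases h0 : ((j : ℕ) : ZMod p) = 0
      · rw [dif_pos h0, dif_pos (by rw [hcast, h0, zero_mul]), smul_zero]
      · have h1 : (((j : ℕ) * (m : ZMod p).val : ℕ) : ZMod p) ≠ 0 := by
          rw [hcast]; exact mul_ne_zero h0 m.ne_zero
        rw [dif_neg h0, dif_neg h1, smul_eq_mul, ← Units.val_mul, ← map_mul]
        congr 2
        ext
        simp [mul_comm]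
    · have h1 := hval 1
      rw [pow_one, dif_neg (by simp)] at h1
      have h2 : g (f ^ t) = (g f) ^ t := map_pow g.ofConv f t
      rw [h0, map_zero, h1] at h2
      exact pow_ne_zero t (Units.ne_zero _) h2.symm

/-- a representative in `1, …, p - 1` of a residue modulo `p - 1` -/
def rep (p i : ℕ) : ℕ := if i % (p - 1) = 0 then p - 1 else i % (p - 1)

omit hp' in
theorem rep_mod (i : ℕ) : rep p i % (p - 1) = i % (p - 1) := by
  unfold rep; split_ifs with h <;> simp [h]

theorem one_le_rep (i : ℕ) : 1 ≤ rep p i ∧ rep p i ≤ p - 1 := by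
  have := hp'.out.two_le
  unfold rep; split_ifs with h
  · omega
  · exact ⟨Nat.one_le_iff_ne_zero.mpr h, (Nat.mod_lt _ (by omega)).le⟩

theorem pow_mem_eigenAug {R A : Type u} [CommRing R] [CommRing A] [HopfAlgebra R A] {q : ℕ} [Fact q.Prime]
    {χ' : (ZMod q)ˣ →* Rˣ} {i : ℕ} {f : A} (hf : f ∈ OortTate.eigenAug R A q χ' i) :
    ∀ t : ℕ, 1 ≤ t → f ^ t ∈ OortTate.eigenAug R A q χ' (t * i) := by
  intro t ht
  induction t, ht using Nat.le_induction with
  | base => simpa using hf
  | succ t _ ih => rw [pow_succ, add_mul, one_mul]; exact eigenAug_mul q χ' ih hf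

include hB hp hu hχ hχp in
theorem field_structure :
    ∃ f ∈ OortTate.eigenAug K B p χ 1, ∀ i : ℕ, f ^ rep p i ≠ 0 ∧
      OortTate.eigenAug K B p χ i = Submodule.span K {f ^ rep p i} := by
  obtain ⟨f, hf, hf0⟩ := exists_generator p χ hB hp hχp
  refine ⟨f, hf, ?_⟩
  have hne : ∀ i, f ^ rep p i ≠ 0 := fun i => hf0 _ (one_le_rep p i).1 (one_le_rep p i).2
  have hmem : ∀ i, f ^ rep p i ∈ OortTate.eigenAug K B p χ i := fun i => by
    rw [← eigenAug_mod p χ i, ← rep_mod p i, eigenAug_mod p χ]
    simpa using pow_mem_eigenAug hf _ (one_le_rep p i).1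
  let I := LinearMap.ker (Bialgebra.counitAlgHom K B).toLinearMap
  let v : Fin (p - 1) → I := fun i => ⟨f ^ rep p i, ((mem_eigenAug p χ).mp (hmem i)).1⟩
  have hI : Module.finrank K I = p - 1 := by
    have h1 := LinearMap.finrank_range_add_finrank_ker (Bialgebra.counitAlgHom K B).toLinearMap
    have h2 : LinearMap.range (Bialgebra.counitAlgHom K B).toLinearMap = ⊤ :=
      LinearMap.range_eq_top.mpr fun r => ⟨algebraMap K B r, by simp⟩
    rw [h2, finrank_top, Module.finrank_self, hB] at h1
    change 1 + Module.finrank K I = p at h1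
    omega
  have hli : LinearIndependent K v := by
    rw [Fintype.linearIndependent_iff]
    intro c hc i
    have h1 := congrArg (fun x : I => OortTate.proj K B p u χ (i : ℕ) (x : B)) hc
    simp only [Submodule.coe_sum, Submodule.coe_smul, map_sum, map_smul, ZeroMemClass.coe_zero, map_zero] at h1
    rw [Finset.sum_eq_single i (fun j _ hj => by
      rw [proj_of_mem p u χ hu hχ (hmem j), if_neg, smul_zero]
      rw [Nat.mod_eq_of_lt i.isLt, Nat.mod_eq_of_lt j.isLt]
      exact fun h => hj (Fin.ext h.symm)) (fun h => absurd (Finset.mem_univ i) h),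
      proj_of_mem p u χ hu hχ (hmem i), if_pos rfl, smul_eq_zero] at h1
    exact h1.resolve_right (hne i)
  have : Nonempty (Fin (p - 1)) := ⟨⟨0, by have := hp'.out.two_le; omega⟩⟩
  have hspan : Submodule.span K (Set.range v) = ⊤ :=
    hli.span_eq_top_of_card_eq_finrank (by rw [Fintype.card_fin, hI])
  refine fun i => ⟨hne i, le_antisymm (fun x hx => ?_) (by
    rw [Submodule.span_singleton_le_iff_mem]; exact hmem i)⟩
  let xI : I := ⟨x, ((mem_eigenAug p χ).mp hx).1⟩
  obtain ⟨c, hc⟩ := (Submodule.mem_span_range_iff_exists_fun K).mp (hspan ▸ trivial : xI ∈ Submodule.span K (Set.range v))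
  have h1 := congrArg (fun x : I => OortTate.proj K B p u χ i (x : B)) hc
  simp only [Submodule.coe_sum, Submodule.coe_smul, map_sum, map_smul] at h1
  rw [show OortTate.proj K B p u χ i (xI : B) = x by rw [proj_of_mem p u χ hu hχ hx, if_pos rfl]] at h1
  let i' : Fin (p - 1) := ⟨i % (p - 1), Nat.mod_lt _ (by have := hp'.out.two_le; omega)⟩
  rw [Finset.sum_eq_single i' (fun j _ hj => by
    rw [proj_of_mem p u χ hu hχ (hmem j), if_neg, smul_zero]
    rw [Nat.mod_eq_of_lt j.isLt]
    exact fun h => hj (Fin.ext h.symm)) (fun h => absurd (Finset.mem_univ i') h),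
    proj_of_mem p u χ hu hχ (hmem i'), if_pos (by simp [i'])] at h1
  have hrep : rep p (i' : ℕ) = rep p i := by simp [rep, i']
  rw [Submodule.mem_span_singleton]
  exact ⟨c i', by rw [← h1]; simp only [v, hrep]⟩

end Field

end

end Groth.Agent.OortTate.Rank
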