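import Mathlib.RingTheory.Spectrum.Prime.FreeLocus
import Mathlib.RingTheory.LocalProperties.Basic
import Mathlib.RingTheory.LocalRing.Module
import Mathlib.LinearAlgebra.Dual.Lemmas

/-!
# Projective modules of rank one: swaps and faithfulness
-/

open TensorProduct

universe u

namespace Groth.Agent.OortTate.RankOne

noncomputable section

variable {R : Type u} [CommRing R] {M : Type u} [AddCommGroup M] [Module R M] [Module.Finite R M]
  [Module.Projective R M] (hM : ∀ q : PrimeSpectrum R, Module.rankAtStalk M q = 1)

include hM in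
/-- the localisations are free on one vector -/
theorem exists_gen (T : Type u) [CommRing T] [Algebra R T] [IsLocalRing T] :
    ∃ e : T ⊗[R] M, (∀ z, ∃ t : T, z = t • e) ∧ ∀ t : T, t • e = 0 → t = 0 := by
  have : Module.Free T (T ⊗[R] M) := Module.free_of_flat_of_isLocalRing
  have h1 : Module.finrank T (T ⊗[R] M) = 1 := by
    have h := Module.rankAtStalk_baseChange (M := M) (IsLocalRing.closedPoint T) (R := R)
    rw [Module.rankAtStalk_eq_finrank_of_free, hM] at h
    simpa using h
  let b := (Module.finBasisOfFinrankEq T (T ⊗[R] M) h1)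
  refine ⟨b 0, fun z => ⟨b.repr z 0, ?_⟩, fun t ht => ?_⟩
  · conv_lhs => rw [← b.sum_repr z]
    simp
  · have := congrArg (fun w => b.repr w 0) ht
    simpa using this

include hM in
theorem swap_apply (φ ψ : M →ₗ[R] R) (x z : M) : φ x * ψ z = φ z * ψ x := by
  refine Module.eq_of_localization_maximal (fun P _ => Localization.AtPrime P)
    (fun P _ => Algebra.linearMap R (Localization.AtPrime P)) _ _ fun P hP => ?_
  let T := Localization.AtPrime P
  obtain ⟨e, he, -⟩ := exists_gen hM T
  have h : ∀ (χ : M →ₗ[R] R) (w : M),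
      algebraMap R T (χ w) = (TensorProduct.AlgebraTensorModule.rid R T T (χ.baseChange T (1 ⊗ₜ[R] w))) := by
    intro χ w; simp [Algebra.algebraMap_eq_smul_one]
  obtain ⟨a, ha⟩ := he (1 ⊗ₜ[R] x)
  obtain ⟨b, hb⟩ := he (1 ⊗ₜ[R] z)
  change algebraMap R T (φ x * ψ z) = algebraMap R T (φ z * ψ x)
  rw [map_mul, map_mul, h φ x, h ψ z, h φ z, h ψ x, ha, hb]
  simp only [map_smul, smul_eq_mul]
  ring

include hM in
theorem swap (φ : M →ₗ[R] R) (x z : M) : φ x • z = φ z • x := by
  rw [← sub_eq_zero, ← Module.forall_dual_apply_eq_zero_iff R]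
  intro ψ
  rw [map_sub, map_smul, map_smul, smul_eq_mul, smul_eq_mul, swap_apply hM φ ψ x z, sub_self]

include hM in
theorem eq_zero_of_smul_eq_zero (r : R) (h : ∀ x : M, r • x = 0) : r = 0 := by
  refine Module.eq_of_localization_maximal (fun P _ => Localization.AtPrime P)
    (fun P _ => Algebra.linearMap R (Localization.AtPrime P)) _ _ fun P hP => ?_
  let T := Localization.AtPrime P
  obtain ⟨e, -, he⟩ := exists_gen hM T
  change algebraMap R T r = algebraMap R T 0
  rw [map_zero]
  apply he
  rw [algebraMap_smul]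
  clear he
  induction e using TensorProduct.induction_on with
  | zero => simp
  | tmul t x => rw [← TensorProduct.tmul_smul, h, TensorProduct.tmul_zero]
  | add y z hy hz => rw [smul_add, hy, hz, add_zero]

end

end Groth.Agent.OortTate.RankOne
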