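import Groth.Agent.OortTate.Invertible
import Groth.Agent.OortTate.RankOne
import Mathlib.LinearAlgebra.TensorAlgebra.Basic
import Mathlib.RingTheory.Flat.LocallyFree

/-!
# A group of order `p` is presented by `I_1` and the multiplication `I_1 ^ p → I_1`
-/

open Coalgebra Bialgebra TensorProduct WithConv
open scoped Pointwise

universe u

namespace Groth.Agent.OortTate.Structure

open Groth.Agent.OortTate.Eigen

noncomputable section

variable {R : Type u} [CommRing R] {A : Type u} [CommRing A] [HopfAlgebra R A] [Module.Finite R A]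
  [Module.Projective R A] (p : ℕ) [hp' : Fact p.Prime] (u : R) (χ : (ZMod p)ˣ →* Rˣ)
  (hu : u * ((p - 1 : ℕ) : R) = 1) (hχ : ∀ m : (ZMod p)ˣ, m ≠ 1 → IsUnit ((χ m : R) - 1))
  (hχp : ∀ m : (ZMod p)ˣ, ((χ m : Rˣ) : R) - (((m : ZMod p).val : ℕ) : R) ∈ Ideal.span ({(p : R)} : Set R))
  (hrk : ∀ q : PrimeSpectrum R, Module.rankAtStalk A q = p)

omit [Module.Finite R A] [Module.Projective R A] in
theorem eigen_self : OortTate.eigenAug R A p χ p = OortTate.eigenAug R A p χ 1 := by
  have := hp'.out.two_le
  rw [← eigenAug_mod p χ p, ← eigenAug_mod p χ 1]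
  congr 1
  rw [show p % (p - 1) = ((p - 1) + 1) % (p - 1) by rw [Nat.sub_add_cancel (by omega)], Nat.add_mod_left]

omit [Module.Finite R A] [Module.Projective R A] in
theorem prod_mem_eigenAug {ι : Type*} (s : Finset ι) (hs : s.Nonempty) {i : ℕ}
    (f : ι → OortTate.eigenAug R A p χ i) :
    (∏ j ∈ s, (f j : A)) ∈ OortTate.eigenAug R A p χ (s.card * i) := by
  induction hs using Finset.Nonempty.cons_induction with
  | singleton a => simp
  | cons a s ha _ ih =>
    rw [Finset.prod_cons, Finset.card_cons, add_mul, one_mul, add_comm]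
    exact eigenAug_mul p χ (f a).2 ih

omit [Module.Finite R A] [Module.Projective R A] in
theorem prod_mem {n : ℕ} (hn : 1 ≤ n) (f : Fin n → OortTate.eigenAug R A p χ 1) :
    (∏ j, (f j : A)) ∈ OortTate.eigenAug R A p χ n := by
  have : Nonempty (Fin n) := ⟨⟨0, hn⟩⟩
  simpa using prod_mem_eigenAug p χ Finset.univ Finset.univ_nonempty f

include hu hχ hχp hrk in
/-- the algebra is generated by `I_1` -/
theorem adjoin_eq_top : Algebra.adjoin R (OortTate.eigenAug R A p χ 1 : Set A) = ⊤ := by
  rw [eq_top_iff]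
  intro a _
  set S := Algebra.adjoin R (OortTate.eigenAug R A p χ 1 : Set A)
  have hp := Invertible.conv_pow_p p hrk
  have h := augProj_eq_sum p u χ hu hχ hp a
  rw [augProj, LinearMap.sub_apply, sub_eq_iff_eq_add] at h
  rw [show a = _ from h]
  refine add_mem (sum_mem fun i _ => ?_) (Subalgebra.algebraMap_mem _ _)
  have hi := eproj_mem p u χ hp (i : ℕ) a
  obtain ⟨h1, h2⟩ := Rank.one_le_rep p (i : ℕ)
  rw [← eigenAug_mod p χ (i : ℕ), ← Rank.rep_mod p (i : ℕ), eigenAug_mod p χ,
    ← Invertible.pow_eq p u χ hu hχ hχp hrk _ h1 h2] at hi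
  have hle : OortTate.eigenAug R A p χ 1 ≤ S.toSubmodule := fun x hx => Algebra.subset_adjoin hx
  have hmono : ∀ t, 1 ≤ t → OortTate.eigenAug R A p χ 1 ^ t ≤ S.toSubmodule := by
    intro t ht
    induction t, ht using Nat.le_induction with
    | base => rw [pow_one]; exact hle
    | succ t _ ih => rw [pow_succ]; exact Submodule.mul_le.mpr fun x hx y hy => S.mul_mem (ih hx) (hle hy)
  exact hmono _ h1 hi

/-- the tensor algebra lift of the inclusion -/
abbrev liftI (R A : Type u) [CommRing R] [CommRing A] [HopfAlgebra R A] (p : ℕ) (χ : (ZMod p)ˣ →* Rˣ) :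
    TensorAlgebra R (OortTate.eigenAug R A p χ 1) →ₐ[R] A :=
  TensorAlgebra.lift R (OortTate.eigenAug R A p χ 1).subtype

include hu hχ hχp hrk in
theorem lift_surjective : Function.Surjective (liftI R A p χ) := by
  rw [← AlgHom.range_eq_top, TensorAlgebra.range_lift, eq_top_iff,
    ← adjoin_eq_top p u χ hu hχ hχp hrk]
  exact Algebra.adjoin_mono fun x hx => ⟨⟨x, hx⟩, rfl⟩

variable (R A) in
/-- the relations -/
abbrev relations : Set (TensorAlgebra R (OortTate.eigenAug R A p χ 1)) :=
  {x | ∃ (f : Fin p → OortTate.eigenAug R A p χ 1) (g : OortTate.eigenAug R A p χ 1),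
    (g : A) = ∏ i, (f i : A) ∧ x = (List.ofFn fun i => TensorAlgebra.ι R (f i)).prod - TensorAlgebra.ι R g}

variable (R A) in
/-- words of length `< p` -/
abbrev shortWords : Submodule R (TensorAlgebra R (OortTate.eigenAug R A p χ 1)) :=
  ⨆ t : Fin p, LinearMap.range (TensorAlgebra.ι R (M := OortTate.eigenAug R A p χ 1)) ^ (t : ℕ)

omit [Module.Finite R A] [Module.Projective R A] in
theorem relations_subset_ker : relations R A p χ ⊆ (RingHom.ker (liftI R A p χ) : Set _) := by
  rintro x ⟨f, g, hg, rfl⟩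
  rw [SetLike.mem_coe, RingHom.mem_ker, map_sub, map_list_prod, List.map_ofFn, sub_eq_zero]
  simp only [liftI, TensorAlgebra.lift_ι_apply, Submodule.subtype_apply, hg]
  rw [List.prod_ofFn]
  exact Finset.prod_congr rfl fun i _ => by simp

omit [Module.Finite R A] [Module.Projective R A] in
theorem word_mem (n : ℕ) : ∀ l : List (OortTate.eigenAug R A p χ 1), l.length = n →
    (l.map (TensorAlgebra.ι R)).prod ∈
      (Ideal.span (relations R A p χ)).restrictScalars R ⊔ shortWords R A p χ := by
  induction n using Nat.strong_induction_on with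
  | _ n ih =>
    intro l hl
    by_cases hn : n < p
    · apply Submodule.mem_sup_right
      apply Submodule.mem_iSup_of_mem (⟨n, hn⟩ : Fin p)
      change _ ∈ LinearMap.range (TensorAlgebra.ι R) ^ n
      subst hl
      clear hn ih
      induction l with
      | nil => simp
      | cons a l ih =>
        rw [List.map_cons, List.prod_cons, List.length_cons, pow_succ']
        exact Submodule.mul_mem_mul ⟨a, rfl⟩ ih
    · have hp2 := hp'.out.two_le
      obtain ⟨w, l', hl', rfl⟩ : ∃ w l', l'.length = p ∧ l = w ++ l' :=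
        ⟨l.take (n - p), l.drop (n - p), by rw [List.length_drop, hl]; omega, (List.take_append_drop _ _).symm⟩
      rw [List.length_append, hl'] at hl
      let f : Fin p → OortTate.eigenAug R A p χ 1 := fun i => l'[(i : ℕ)]'(by have := i.isLt; omega)
      have hf : l' = List.ofFn f := by
        apply List.ext_getElem (by simp [hl'])
        intro i h1 h2
        simp [f]
      let g : OortTate.eigenAug R A p χ 1 :=
        ⟨∏ i, (f i : A), by have h := prod_mem p χ (by omega) f; rwa [eigen_self (A := A) p χ] at h⟩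
      have hrel : (List.ofFn fun i => TensorAlgebra.ι R (f i)).prod - TensorAlgebra.ι R g ∈
          Ideal.span (relations R A p χ) := Ideal.subset_span ⟨f, g, rfl, rfl⟩
      have h1 := Ideal.mul_mem_left _ (w.map (TensorAlgebra.ι R)).prod hrel
      have h2 := ih (w.length + 1) (by omega) (w ++ [g]) (by simp)
      rw [List.map_append, List.prod_append, hf, List.map_ofFn]
      have h3 : (w.map (TensorAlgebra.ι R)).prod * (List.ofFn fun i => TensorAlgebra.ι R (f i)).prod =
          (w.map (TensorAlgebra.ι R)).prod *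
              ((List.ofFn fun i => TensorAlgebra.ι R (f i)).prod - TensorAlgebra.ι R g) +
            ((w ++ [g]).map (TensorAlgebra.ι R)).prod := by
        simp [mul_sub]
      rw [show (⇑(TensorAlgebra.ι R) ∘ f) = fun i => TensorAlgebra.ι R (f i) from rfl, h3]
      exact add_mem (Submodule.mem_sup_left h1) h2

omit [Module.Finite R A] [Module.Projective R A] in
theorem span_sup_shortWords :
    (Ideal.span (relations R A p χ)).restrictScalars R ⊔ shortWords R A p χ = ⊤ := by
  rw [eq_top_iff]
  intro z _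
  have hz : z ∈ Subalgebra.toSubmodule (Algebra.adjoin R (Set.range (TensorAlgebra.ι R (M := OortTate.eigenAug R A p χ 1)))) := by
    rw [TensorAlgebra.adjoin_range_ι]; trivial
  rw [Algebra.adjoin_eq_span] at hz
  refine Submodule.span_le.mpr ?_ hz
  intro w hw
  obtain ⟨l, hl, rfl⟩ := Submonoid.exists_list_of_mem_closure hw
  choose g hg using hl
  have : l = (l.attach.map fun x => g x.1 x.2).map (TensorAlgebra.ι R) := by
    rw [List.map_map]
    conv_lhs => rw [← List.attach_map_subtype_val l]
    exact List.map_congr_left fun x _ => (hg x.1 x.2).symm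
  rw [this]
  exact word_mem p χ _ _ rfl

include hu hχ hχp hrk in
theorem mul_map_bijective {t : ℕ} (ht : 1 ≤ t) (htp : t + 1 ≤ p - 1) :
    ∃ m : OortTate.eigenAug R A p χ 1 ⊗[R] OortTate.eigenAug R A p χ t →ₗ[R] OortTate.eigenAug R A p χ (t + 1),
      Function.Bijective m ∧ ∀ x y, ((m (x ⊗ₜ y)) : A) = (x : A) * (y : A) := by
  let I₁ := OortTate.eigenAug R A p χ 1
  let It := OortTate.eigenAug R A p χ t
  let μ : I₁ ⊗[R] It →ₗ[R] A := LinearMap.mul' R A ∘ₗ TensorProduct.map I₁.subtype It.subtype
  have hμ : ∀ z, μ z ∈ OortTate.eigenAug R A p χ (t + 1) := by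
    intro z
    induction z using TensorProduct.induction_on with
    | zero => simp
    | tmul x y => simpa [μ, add_comm] using eigenAug_mul p χ x.2 y.2
    | add y z hy hz => rw [map_add]; exact add_mem hy hz
  obtain ⟨h1f, h1p⟩ := Invertible.finite_projective p u χ hu hχ hrk 1
  obtain ⟨htf, htP⟩ := Invertible.finite_projective p u χ hu hχ hrk t
  obtain ⟨hsf, hsP⟩ := Invertible.finite_projective p u χ hu hχ hrk (t + 1)
  have : Module.Finite R (I₁ ⊗[R] It) := inferInstance
  have : Module.Flat R (I₁ ⊗[R] It) := inferInstance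
  refine ⟨μ.codRestrict _ hμ, ?_, fun x y => by simp [μ, I₁, It]⟩
  have hs : Function.Surjective (μ.codRestrict _ hμ) := by
    intro z
    have hz : (z : A) ∈ I₁ * It := by
      simp only [I₁, It]
      rw [← Invertible.pow_eq p u χ hu hχ hχp hrk t ht (by omega), ← pow_succ',
        Invertible.pow_eq p u χ hu hχ hχp hrk (t + 1) (by omega) htp]
      exact z.2
    have hr : I₁ * It ≤ LinearMap.range μ := Submodule.mul_le.mpr fun x hx y hy => ⟨⟨x, hx⟩ ⊗ₜ ⟨y, hy⟩, by simp [μ]⟩
    obtain ⟨w, hw⟩ := hr hz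
    exact ⟨w, Subtype.ext hw⟩
  exact Module.bijective_of_surjective_of_rankAtStalk_eq (M := I₁ ⊗[R] It)
    (N := OortTate.eigenAug R A p χ (t + 1)) (φ := μ.codRestrict _ hμ) hs fun m _ => by
    rw [Module.rankAtStalk_tensorProduct, Pi.mul_apply]
    simp [I₁, It, Invertible.rankAtStalk_eq_one p u χ hu hχ hχp hrk]

include hu hχ hχp hrk in
/-- the lift is bijective from words of length `t` onto `I_t` -/
theorem section_word (t : ℕ) (ht : 1 ≤ t) (htp : t ≤ p - 1) :
    ∃ σ : OortTate.eigenAug R A p χ t →ₗ[R] TensorAlgebra R (OortTate.eigenAug R A p χ 1),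
      LinearMap.range σ = LinearMap.range (TensorAlgebra.ι R (M := OortTate.eigenAug R A p χ 1)) ^ t ∧
      ∀ x, liftI R A p χ (σ x) = (x : A) := by
  induction t, ht using Nat.le_induction with
  | base => exact ⟨TensorAlgebra.ι R, by rw [pow_one], fun x => by simp [liftI]⟩
  | succ t ht ih =>
    obtain ⟨σ, hσ, hL⟩ := ih (by omega)
    obtain ⟨m, hm, hmul⟩ := mul_map_bijective p u χ hu hχ hχp hrk ht htp
    let e := LinearEquiv.ofBijective m hm
    let Φ := LinearMap.mul' R (TensorAlgebra R (OortTate.eigenAug R A p χ 1)) ∘ₗ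
      TensorProduct.map (TensorAlgebra.ι R) σ
    refine ⟨Φ ∘ₗ e.symm.toLinearMap, ?_, fun x => ?_⟩
    · rw [LinearMap.range_comp_of_range_eq_top _ e.symm.range, pow_succ']
      rw [← hσ]
      apply le_antisymm
      · rintro _ ⟨z, rfl⟩
        induction z using TensorProduct.induction_on with
        | zero => simp
        | tmul x y =>
          simp only [Φ, LinearMap.comp_apply, TensorProduct.map_tmul, LinearMap.mul'_apply]
          exact Submodule.mul_mem_mul ⟨x, rfl⟩ ⟨y, rfl⟩
        | add y z hy hz => rw [map_add]; exact add_mem hy hz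
      · rw [Submodule.mul_le]
        rintro _ ⟨x, rfl⟩ _ ⟨y, rfl⟩
        exact ⟨x ⊗ₜ y, by simp [Φ]⟩
    · obtain ⟨z, rfl⟩ := e.surjective x
      simp only [LinearMap.comp_apply, LinearEquiv.coe_coe, LinearEquiv.symm_apply_apply]
      induction z using TensorProduct.induction_on with
      | zero => simp
      | tmul a b => simp [Φ, e, hL, hmul, liftI]
      | add y z hy hz => rw [map_add, map_add, hy, hz, map_add]; simp

include hu hχ hχp hrk in
theorem shortWords_inter_ker {w : TensorAlgebra R (OortTate.eigenAug R A p χ 1)}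
    (hw : w ∈ shortWords R A p χ) (h0 : liftI R A p χ w = 0) : w = 0 := by
  classical
  have hp := Invertible.conv_pow_p p hrk
  rw [Submodule.mem_iSup_iff_exists_finsupp] at hw
  obtain ⟨f, hf, rfl⟩ := hw
  rw [Finsupp.sum_fintype _ _ (fun _ => rfl), map_sum] at h0
  rw [Finsupp.sum_fintype _ _ (fun _ => rfl)]
  have h2 := hp'.out.two_le
  -- images of the homogeneous parts
  have hmem : ∀ t : Fin p, 1 ≤ (t : ℕ) → ∃ x : OortTate.eigenAug R A p χ t, (x : A) = liftI R A p χ (f t) ∧
      (x = 0 → f t = 0) := by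
    intro t ht
    obtain ⟨σ, hσ, hL⟩ := section_word p u χ hu hχ hχp hrk t ht (by have := t.isLt; omega)
    obtain ⟨x, hx⟩ := hσ ▸ hf t
    exact ⟨x, by rw [← hx, hL], fun h => by rw [← hx, h, map_zero]⟩
  obtain ⟨r, hr⟩ : ∃ r : R, f ⟨0, by omega⟩ = algebraMap R _ r := by
    have h := hf ⟨0, by omega⟩
    simp only [Submodule.pow_zero, Submodule.one_eq_range] at h
    obtain ⟨r, hr⟩ := h
    exact ⟨r, hr.symm⟩
  have hsmall : ∀ t : Fin p, 1 ≤ (t : ℕ) → f t = 0 := by
    intro t ht
    obtain ⟨x, hx, hx0⟩ := hmem t ht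
    apply hx0
    have h := congrArg (eproj R A p u χ (t : ℕ)) h0
    rw [map_sum, map_zero, Finset.sum_eq_single t] at h
    · rw [← hx, eproj_of_mem p u χ hu hχ x.2, if_pos rfl] at h
      exact Subtype.ext h
    · intro s _ hs
      rcases Nat.eq_zero_or_pos (s : ℕ) with h0 | hpos
      · have hs0 : s = ⟨0, by omega⟩ := Fin.ext h0
        rw [hs0, hr, AlgHom.commutes, Algebra.algebraMap_eq_smul_one, map_smul, eproj_one, smul_zero]
      · obtain ⟨y, hy, -⟩ := hmem s hpos
        rw [← hy, eproj_of_mem p u χ hu hχ y.2, if_neg]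
        have h1 := s.isLt
        have h3 := t.isLt
        intro hmod
        apply hs
        apply Fin.ext
        rcases eq_or_lt_of_le (by omega : (t : ℕ) ≤ p - 1) with h4 | h4 <;>
          rcases eq_or_lt_of_le (by omega : (s : ℕ) ≤ p - 1) with h5 | h5
        · omega
        · rw [h4, Nat.mod_self, Nat.mod_eq_of_lt h5] at hmod; omega
        · rw [h5, Nat.mod_self, Nat.mod_eq_of_lt h4] at hmod; omega
        · rw [Nat.mod_eq_of_lt h4, Nat.mod_eq_of_lt h5] at hmod; omega
    · intro h; exact absurd (Finset.mem_univ t) h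
  refine Finset.sum_eq_zero fun t _ => ?_
  rcases Nat.eq_zero_or_pos (t : ℕ) with ht | ht
  · have ht0 : t = ⟨0, by omega⟩ := Fin.ext ht
    rw [ht0]
    have h := congrArg (counit (R := R)) h0
    rw [map_sum, map_zero, Finset.sum_eq_single (⟨0, by omega⟩ : Fin p)] at h
    · rw [hr, AlgHom.commutes, Bialgebra.counit_algebraMap] at h
      rw [hr, h, map_zero]
    · intro s _ hs
      have : 1 ≤ (s : ℕ) := Nat.one_le_iff_ne_zero.mpr fun h => hs (Fin.ext h)
      rw [hsmall s this, map_zero, map_zero]
    · intro h; exact absurd (Finset.mem_univ _) h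
  · exact hsmall t ht

include hu hχ hχp hrk in
/-- the presentation -/
theorem presentation :
    Function.Surjective (liftI R A p χ) ∧
      RingHom.ker (liftI R A p χ) = Ideal.span (relations R A p χ) := by
  refine ⟨lift_surjective p u χ hu hχ hχp hrk,
    le_antisymm (fun z hz => ?_) (Ideal.span_le.mpr (relations_subset_ker p χ))⟩
  obtain ⟨j, hj, w, hw, rfl⟩ := Submodule.mem_sup.mp
    (show z ∈ (Ideal.span (relations R A p χ)).restrictScalars R ⊔ shortWords R A p χ by
      rw [span_sup_shortWords]; trivial)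
  have hj0 : liftI R A p χ j = 0 := Ideal.span_le.mpr (relations_subset_ker p χ) hj
  rw [RingHom.mem_ker, map_add, hj0, zero_add] at hz
  rw [shortWords_inter_ker p u χ hu hχ hχp hrk hw hz, add_zero]
  exact hj

end

end Groth.Agent.OortTate.Structure
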